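import Groth.Agent.Lib.DMV.ExtZero

/-! The counit `j_!j^* → id` is a monomorphism for opens. -/

set_option autoImplicit false
set_option linter.style.haveILetI false
set_option linter.unusedSectionVars false
set_option backward.isDefEq.respectTransparency false
set_option backward.isDefEq.respectTransparency.types false

universe u

open CategoryTheory CategoryTheory.Limits AlgebraicGeometry Opposite

namespace Groth.Agent.DMV

open ModFlat16 in
/-- The presheaf counit is injective when maps into `U` are unique. -/
theorem mono_preExtAdj_counit {C : Type u} [SmallCategory C] {R : Cᵒᵖ ⥤ CommRingCat.{u}} {U : C}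
    (hU : ∀ V : C, Subsingleton (V ⟶ U)) (N : KFlat.SiteW.PM R) :
    Mono ((preExtAdj R U).counit.app N) := by
  refine PresheafOfModules.mono_of_injective fun {V} => ?_
  let M := (preRestr R U).obj N
  change Function.Injective (adjInvApp (N := N) (𝟙 M) V)
  intro a b hab
  by_cases h : Nonempty (V.unop ⟶ U)
  · obtain ⟨φ⟩ := h
    have key : ∀ z : Ext0 M V, ∃ x, z = sg M φ x := fun z => by
      induction z using ext0_induction with
      | h0 => exact ⟨0, (map_zero _).symm⟩
      | hs ψ x =>
        haveI := hU V.unop
        obtain rfl := Subsingleton.elim ψ φ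
        exact ⟨x, rfl⟩
      | ha a b ha hb =>
        obtain ⟨x, rfl⟩ := ha
        obtain ⟨y, rfl⟩ := hb
        exact ⟨x + y, (map_add _ x y).symm⟩
    obtain ⟨x, rfl⟩ := key a
    obtain ⟨y, rfl⟩ := key b
    rw [adjInvApp_sg, adjInvApp_sg] at hab
    exact congrArg _ hab
  · haveI : IsEmpty (V.unop ⟶ U) := not_nonempty_iff.1 h
    have key : ∀ z : Ext0 M V, z = 0 := fun z => by
      induction z using ext0_induction with
      | h0 => rfl
      | hs ψ x => exact isEmptyElim ψ
      | ha a b ha hb => rw [ha, hb, add_zero]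
    rw [key a, key b]

theorem mono_extZero_counit {C : Type u} [SmallCategory C] {J : GrothendieckTopology C}
    (O : Sheaf J CommRingCat.{u}) {U : C} [HasSheafify J AddCommGrpCat.{u}] [J.WEqualsLocallyBijective AddCommGrpCat.{u}]
    (hU : ∀ V : C, Subsingleton (V ⟶ U)) (M : ModSite.Mod O) :
    Mono ((ModSite.extZeroAdj O U).counit.app M) := by
  rw [← Adjunction.leftAdjointUniq_hom_app_counit (ModSite.extZeroAdj O U) (ModFlat16.extFunAdj O U) M]
  have h := Adjunction.map_restrictFullyFaithful_counit_app (ModFlat16.extAdjPre O U) (ModFlat16.toPreFF (O.over U))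
    (Functor.FullyFaithful.id (ModSite.Mod O)) (Functor.rightUnitor _).symm
    (Functor.leftUnitor _ ≪≫ (ModFlat16.restrToPre O U).symm) M
  suffices Mono ((ModFlat16.extFunAdj O U).counit.app M) from mono_comp _ _
  change Mono ((𝟭 (ModSite.Mod O)).map ((ModFlat16.extFunAdj O U).counit.app M))
  rw [show (𝟭 (ModSite.Mod O)).map ((ModFlat16.extFunAdj O U).counit.app M) = _ from h]
  haveI := (ModFlat16.toPreFF O).full
  haveI := (ModFlat16.toPreFF O).faithful
  haveI : IsIso (KFlat.Site.adj O).counit :=
    (KFlat.Site.adj O).counit_isIso_of_R_fully_faithful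
  haveI : PreservesFiniteLimits (ModSite.shPre O) := inferInstance
  haveI := mono_preExtAdj_counit hU ((ModSite.toPre O).obj M)
  haveI : Mono ((ModFlat16.extAdjPre O U).counit.app ((𝟭 (ModSite.Mod O)).obj M)) := by
    change Mono ((ModFlat16.extAdjPre O U).counit.app M)
    rw [Adjunction.comp_counit_app]
    exact mono_comp _ _
  haveI : Mono ((ModFlat16.preE O U ⋙ ModSite.shPre O).map
          (((ModSite.toPre O ⋙ ModFlat16.preR O U).leftUnitor ≪≫ (ModFlat16.restrToPre O U).symm).inv.app M) ≫
        (ModFlat16.extAdjPre O U).counit.app ((𝟭 (ModSite.Mod O)).obj M)) := mono_comp _ _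
  exact mono_comp _ _

variable {X : Scheme.{u}}

/-- `j_!j^* M → M` is a monomorphism. -/
theorem mono_counit (V : X.Opens) (M : X.Modules) : Mono ((CxOX.extZeroAdj V.ι).counit.app M) := by
  rw [← Adjunction.leftAdjointUniq_hom_app_counit (CxOX.extZeroAdj V.ι)
    ((((Scheme.Modules.overEquiv V).symm.toAdjunction).comp (ModSite.extZeroAdj X.sheaf V)).ofNatIsoRight
      (Scheme.Modules.overFunctorEquiv V)) M]
  haveI := mono_extZero_counit X.sheaf (U := V) (fun _ => inferInstance) M
  haveI := ModFlat16.preservesFiniteLimits_extZero X.sheaf V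
  suffices Mono (((((Scheme.Modules.overEquiv V).symm.toAdjunction).comp (ModSite.extZeroAdj X.sheaf V)).ofNatIsoRight
      (Scheme.Modules.overFunctorEquiv V)).counit.app M) from mono_comp _ _
  simp only [Adjunction.ofNatIsoRight, NatTrans.comp_app, Functor.whiskerRight_app, Adjunction.comp_counit_app]
  haveI : PreservesFiniteLimits ((Scheme.Modules.overEquiv V).symm.functor ⋙ ModSite.extZero X.sheaf V) :=
    comp_preservesFiniteLimits _ _
  haveI : IsIso (Scheme.Modules.overEquiv V).symm.toAdjunction.counit :=
    inferInstanceAs (IsIso (Scheme.Modules.overEquiv V).symm.counitIso.hom)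
  haveI := mono_extZero_counit X.sheaf (U := V) (fun _ => inferInstance) M
  exact mono_comp _ _

end Groth.Agent.DMV
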