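import Groth.Prelude.Def_CxOX
import Groth.Prelude.Def_DCoh3
import Groth.Agent.Lib.KInj.DerivedAdj
import Groth.Agent.Lib.ModFlat16.RestrTensor
import Mathlib.CategoryTheory.Localization.Adjunction

/-! Extension by zero on derived categories. -/

set_option autoImplicit false
set_option linter.style.haveILetI false
set_option linter.unusedSectionVars false
set_option backward.isDefEq.respectTransparency false
set_option backward.isDefEq.respectTransparency.types false

universe u w w' v v' u₁ u₂

open CategoryTheory CategoryTheory.Limits AlgebraicGeometry

namespace Groth.Agent.DMV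

section General

variable {A : Type u₁} [Category.{v} A] [Abelian A] [HasDerivedCategory.{w} A]
  {B : Type u₂} [Category.{v'} B] [Abelian B] [HasDerivedCategory.{w'} B]
  {F : A ⥤ B} {G : B ⥤ A} [F.Additive] [PreservesFiniteLimits F] [PreservesFiniteColimits F]
  [G.Additive] [PreservesFiniteLimits G] [PreservesFiniteColimits G]

/-- An adjunction between exact functors descends to derived categories. -/
noncomputable def adjD (adj : F ⊣ G) : F.mapDerivedCategory ⊣ G.mapDerivedCategory :=
  letI : CatCommSq (F.mapHomologicalComplex (ComplexShape.up ℤ)) DerivedCategory.Q DerivedCategory.Q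
    F.mapDerivedCategory := ⟨F.mapDerivedCategoryFactors.symm⟩
  letI : CatCommSq (G.mapHomologicalComplex (ComplexShape.up ℤ)) DerivedCategory.Q DerivedCategory.Q
    G.mapDerivedCategory := ⟨G.mapDerivedCategoryFactors.symm⟩
  (KInjLib.adjComplexes adj (ComplexShape.up ℤ)).localization
    DerivedCategory.Q (HomologicalComplex.quasiIso A (ComplexShape.up ℤ))
    DerivedCategory.Q (HomologicalComplex.quasiIso B (ComplexShape.up ℤ))
    F.mapDerivedCategory G.mapDerivedCategory

end General

variable {X : Scheme.{u}}

/-- `j_!` is exact. -/
instance preservesFiniteLimits_extZero (V : X.Opens) : PreservesFiniteLimits (CxOX.extZero V.ι) :=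
  haveI := ModFlat16.preservesFiniteLimits_extZero X.sheaf V
  preservesFiniteLimits_of_natIso (CxOX.extZeroIsoSite V).symm

end Groth.Agent.DMV
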