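import Groth.Agent.Lib.DMV.Derived

/-! Restriction of derived direct images; Mayer-Vietoris for global sections. -/

set_option autoImplicit false
set_option linter.style.haveILetI false
set_option linter.unusedSectionVars false
set_option backward.isDefEq.respectTransparency false
set_option backward.isDefEq.respectTransparency.types false

universe u

open CategoryTheory CategoryTheory.Limits AlgebraicGeometry Pretriangulated

namespace Groth.Agent.DMV

attribute [local instance] HasDerivedCategory.standard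

variable {X Y : Scheme.{u}}

local notation "Cx" => ComplexShape.up ℤ

/-- Restriction commutes with direct images. -/
noncomputable def pushResIso (f : X ⟶ Y) (V : Y.Opens) :
    Scheme.Modules.pushforward f ⋙ Scheme.Modules.restrictFunctor V.ι ≅
      Scheme.Modules.restrictFunctor (f ⁻¹ᵁ V).ι ⋙ Scheme.Modules.pushforward (f ∣_ V) :=
  NatIso.ofComponents (fun M => M1.pushRestrictIso (isPullback_morphismRestrict f V) M)
    fun φ => CohFound.pushRestrictIso_natural (isPullback_morphismRestrict f V) φ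

/-- Restriction commutes with derived direct images. -/
theorem nonempty_restrictD_rpush (f : X ⟶ Y) (V : Y.Opens) [DCoh.HasRpush f] [DCoh.HasRpush (f ∣_ V)]
    [PreservesFiniteLimits (Scheme.Modules.restrictFunctor V.ι)]
    [PreservesFiniteLimits (Scheme.Modules.restrictFunctor (f ⁻¹ᵁ V).ι)] :
    Nonempty (DCoh.Rpush f ⋙ DCoh.restrictD V.ι ≅ DCoh.restrictD (f ⁻¹ᵁ V).ι ⋙ DCoh.Rpush (f ∣_ V)) := by
  let P := Scheme.Modules.pushforward f
  let P' := Scheme.Modules.pushforward (f ∣_ V)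
  let R := Scheme.Modules.restrictFunctor V.ι
  let R' := Scheme.Modules.restrictFunctor (f ⁻¹ᵁ V).ι
  let Φ := (P ⋙ R).mapHomotopyCategory Cx ⋙ DerivedCategory.Qh
  let α₁ : Φ ⟶ DerivedCategory.Qh ⋙ DCoh.Rpush f ⋙ DCoh.restrictD V.ι :=
    Functor.whiskerRight (Functor.mapHomotopyCategoryCompIso (Iso.refl (P ⋙ R)) Cx).inv _ ≫
      (Functor.associator _ _ _).hom ≫
      Functor.whiskerLeft _ R.mapDerivedCategoryFactorsh.inv ≫ (Functor.associator _ _ _).inv ≫
      Functor.whiskerRight (DPush.unit f) _ ≫ (Functor.associator _ _ _).hom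
  let α₂ : Φ ⟶ DerivedCategory.Qh ⋙ DCoh.restrictD (f ⁻¹ᵁ V).ι ⋙ DCoh.Rpush (f ∣_ V) :=
    Functor.whiskerRight (Functor.mapHomotopyCategoryCompIso (pushResIso f V).symm Cx).inv _ ≫
      (Functor.associator _ _ _).hom ≫
      Functor.whiskerLeft _ (DPush.unit (f ∣_ V)) ≫ (Functor.associator _ _ _).inv ≫
      Functor.whiskerRight R'.mapDerivedCategoryFactorsh.inv _ ≫ (Functor.associator _ _ _).hom
  refine nonempty_iso_of_units Φ _ _ α₁ α₂ (fun I hI => ?_) fun I hI => ?_
  · haveI : IsIso ((DPush.unit f).app ((HomotopyCategory.quotient X.Modules Cx).obj I)) :=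
      KInjLib.isIso_app_of_isKInjective KInjLib.enoughKInj_of_grothendieck (DPush.unit f) I
    simp only [α₁, NatTrans.comp_app, Functor.whiskerLeft_app, Functor.whiskerRight_app,
      Functor.associator_inv_app, Functor.associator_hom_app]
    infer_instance
  · haveI := isKInjective_restrict (U := f ⁻¹ᵁ V) I
    haveI : IsIso ((DPush.unit (f ∣_ V)).app ((R'.mapHomotopyCategory Cx).obj
        ((HomotopyCategory.quotient X.Modules Cx).obj I))) :=
      KInjLib.isIso_app_of_isKInjective KInjLib.enoughKInj_of_grothendieck (DPush.unit (f ∣_ V))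
        ((R'.mapHomologicalComplex Cx).obj I)
    simp only [α₂, NatTrans.comp_app, Functor.whiskerLeft_app, Functor.whiskerRight_app,
      Functor.associator_inv_app, Functor.associator_hom_app]
    infer_instance

/-- Global sections of a direct image. -/
noncomputable def gammaPushIso (g : X ⟶ Y) :
    Scheme.Modules.pushforward g ⋙ DCoh.gammaAb Y ≅ DCoh.gammaAb X :=
  NatIso.ofComponents (fun _ => Iso.refl _) fun φ => (Category.comp_id _).trans (Category.id_comp _).symm

/-- Mayer-Vietoris for `RΓ`. -/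
theorem exists_gamma_triangle (U V : X.Opens) (hUV : U ⊔ V = ⊤)
    [DCoh.HasRΓ X] [DCoh.HasRΓ (U : Scheme.{u})] [DCoh.HasRΓ (V : Scheme.{u})] [DCoh.HasRΓ (U ⊓ V : X.Opens)]
    [PreservesFiniteLimits (Scheme.Modules.restrictFunctor U.ι)]
    [PreservesFiniteLimits (Scheme.Modules.restrictFunctor V.ι)]
    [PreservesFiniteLimits (Scheme.Modules.restrictFunctor (U ⊓ V).ι)] (E : DCoh.D X) :
    ∃ (a : (DCoh.RΓ X).obj E ⟶ ((DCoh.RΓ (U : Scheme.{u})).obj ((DCoh.restrictD U.ι).obj E) ⊞ (DCoh.RΓ (V : Scheme.{u})).obj ((DCoh.restrictD V.ι).obj E))) (b : ((DCoh.RΓ (U : Scheme.{u})).obj ((DCoh.restrictD U.ι).obj E) ⊞ (DCoh.RΓ (V : Scheme.{u})).obj ((DCoh.restrictD V.ι).obj E)) ⟶ (DCoh.RΓ (U ⊓ V : X.Opens)).obj ((DCoh.restrictD (U ⊓ V).ι).obj E)) (c : (DCoh.RΓ (U ⊓ V : X.Opens)).obj ((DCoh.restrictD (U ⊓ V).ι).obj E) ⟶ ((DCoh.RΓ X).obj E)⟦(1 : ℤ)⟧),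
      Triangle.mk a b c ∈ distTriang _ := by
  obtain ⟨I, φ, hI, hφ, -, hinj⟩ := KInjLib.exists_resolution (DerivedCategory.Q.objPreimage E)
  let e : DerivedCategory.Q.obj I ≅ E :=
    (asIso (DerivedCategory.Q.map φ)).symm ≪≫ DerivedCategory.Q.objObjPreimageIso E
  let c : ∀ (W : X.Opens) [DCoh.HasRΓ (W : Scheme.{u})] [PreservesFiniteLimits (Scheme.Modules.restrictFunctor W.ι)],
      DerivedCategory.Q.obj (((DCoh.gammaAb X).mapHomologicalComplex Cx).obj (jjrc I W)) ≅
        (DCoh.RΓ (W : Scheme.{u})).obj ((DCoh.restrictD W.ι).obj E) := fun W _ _ =>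
    haveI := isKInjective_restrict (U := W) I
    DerivedCategory.Q.mapIso ((Functor.mapHomologicalComplexCompIso (gammaPushIso W.ι) Cx).app
      (((Scheme.Modules.restrictFunctor W.ι).mapHomologicalComplex Cx).obj I)) ≪≫
      gammaIso (W : Scheme.{u}) _ ≪≫
      (DCoh.RΓ (W : Scheme.{u})).mapIso (((Scheme.Modules.restrictFunctor W.ι).mapDerivedCategoryFactors.app I).symm ≪≫
        (DCoh.restrictD W.ι).mapIso e)
  exact exists_push_triangle (DCoh.gammaAb X) I hUV hinj (gammaIso X I ≪≫ (DCoh.RΓ X).mapIso e) (c U) (c V) (c (U ⊓ V))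

end Groth.Agent.DMV
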