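import Groth.Agent.Lib.DMV.Derived
import Groth.Agent.Lib.RHom.Support
import Groth.Agent.Lib.RHom.Proj
import Groth.Agent.Lib.DPerf.Free

/-! Derived direct images of objects supported in a closed subset of an open. -/

set_option autoImplicit false
set_option linter.style.haveILetI false
set_option linter.unusedSectionVars false
set_option backward.isDefEq.respectTransparency false
set_option backward.isDefEq.respectTransparency.types false

universe u

open CategoryTheory CategoryTheory.Limits AlgebraicGeometry Pretriangulated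

namespace Groth.Agent.DMV

attribute [local instance] HasDerivedCategory.standard

variable {X : Scheme.{u}}

theorem isZero_of_hd {Z : DCoh.D X} (h : ∀ i, IsZero (DCoh.HD Z i)) : IsZero Z := by
  haveI : IsIso (0 : Z ⟶ Z) := (DerivedCategory.isIso_iff X.Modules _).2 fun i =>
    ⟨0, (h i).eq_of_src _ _, (h i).eq_of_src _ _⟩
  exact (IsZero.iff_id_eq_zero Z).2 (by rw [← IsIso.hom_inv_id (0 : Z ⟶ Z), zero_comp])

/-- Restriction away from the support vanishes. -/
theorem isZero_restrictD {W : X.Opens} {E : DCoh.D X}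
    (h : ∀ (x : X) (i : ℤ), x ∈ W → RHom.StalkZero x (DCoh.HD E i)) :
    IsZero ((DPerf.resD W.ι).obj E) :=
  isZero_of_hd fun i => (DPerf.isZero_of_stalks fun z => AddCommGrpCat.subsingleton_of_isZero
    ((RHom.stalkZero_restrict_iff W.ι z _).2 (h (W.ι z) i z.2))).of_iso (DPerf.hdResIso W.ι E i)

/-- Derived direct images of zero objects vanish. -/
theorem isZero_rpush {Y : Scheme.{u}} (g : X ⟶ Y) [DCoh.HasRpush g] {E : DCoh.D X} (hE : IsZero E) :
    IsZero ((DCoh.Rpush g).obj E) := by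
  obtain ⟨I, hI⟩ := HasZeroObject.zero (C := CochainComplex X.Modules ℤ)
  haveI : I.IsKInjective := ⟨fun f _ => ⟨Homotopy.ofEq (hI.eq_of_tgt f 0)⟩⟩
  exact (DerivedCategory.Q.map_isZero
    (((Scheme.Modules.pushforward g).mapHomologicalComplex _).map_isZero hI)).of_iso
    ((DCoh.Rpush g).mapIso (hE.iso (DerivedCategory.Q.map_isZero hI)) ≪≫ (pushIso g I).symm)

theorem stalkZero_of_not_mem_support {M : X.Modules} {x : X} (h : x ∉ CohB1.support M) :
    RHom.StalkZero x M := by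
  haveI : Subsingleton (M.presheaf.stalk x) := not_not.1 h
  haveI : Subsingleton ((M1.stalkAb x).obj M) := this
  exact AddCommGrpCat.isZero_of_subsingleton _

/-- Objects with support in a closed subset of `U` are direct images from `U`. -/
theorem nonempty_iso_rpush_restrict (U : X.Opens) [DCoh.HasRpush U.ι] (T : Set X) (hT : IsClosed T)
    (hTU : T ⊆ (U : Set X)) (E : DCoh.D X) (hE : ∀ i : ℤ, CohB1.support (DCoh.HD E i) ⊆ T) :
    Nonempty (E ≅ (DCoh.Rpush U.ι).obj ((DCoh.restrictD U.ι).obj E)) := by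
  let V : X.Opens := ⟨Tᶜ, hT.isOpen_compl⟩
  have hUV : U ⊔ V = ⊤ := top_le_iff.1 fun x _ => by
    by_cases hx : x ∈ T
    · exact Or.inl (hTU hx)
    · exact Or.inr hx
  haveI : DCoh.HasRpush V.ι := KInjLib.hasRightDerivedFunctor KInjLib.enoughKInj_of_grothendieck _
  haveI : DCoh.HasRpush (U ⊓ V).ι := KInjLib.hasRightDerivedFunctor KInjLib.enoughKInj_of_grothendieck _
  obtain ⟨a, b, c, htri⟩ := exists_open_triangle U V hUV E
  have hz : ∀ W : X.Opens, W ≤ V → IsZero ((DCoh.restrictD W.ι).obj E) := fun W hW =>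
    isZero_restrictD fun x i hx => stalkZero_of_not_mem_support fun hx' => hW hx (hE i hx')
  haveI : IsIso a := (Triangle.isZero₃_iff_isIso₁ _ htri).1
    (isZero_rpush _ (hz (U ⊓ V) inf_le_right))
  exact ⟨asIso a ≪≫ (isoBiprodZero (isZero_rpush _ (hz V le_rfl))).symm⟩

/-- Restricting an extension by zero. -/
noncomputable def restrictExtZeroIso (U : X.Opens) (F : DCoh.D (U : Scheme.{u})) :
    (DCoh.restrictD U.ι).obj ((CxOX.extZeroD U.ι).obj F) ≅ F :=
  let K := (DerivedCategory.Q (C := (U : Scheme.{u}).Modules)).objPreimage F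
  let e : DerivedCategory.Q.obj K ≅ F := DerivedCategory.Q.objObjPreimageIso F
  let u : K ≅ ((Scheme.Modules.restrictFunctor U.ι).mapHomologicalComplex (ComplexShape.up ℤ)).obj
      (((CxOX.extZero U.ι).mapHomologicalComplex (ComplexShape.up ℤ)).obj K) :=
    HomologicalComplex.Hom.isoOfComponents (fun i => asIso ((CxOX.extZeroAdj U.ι).unit.app (K.X i)))
      fun i j _ => ((CxOX.extZeroAdj U.ι).unit.naturality (K.d i j)).symm
  (DCoh.restrictD U.ι).mapIso ((CxOX.extZeroD U.ι).mapIso e.symm ≪≫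
    (CxOX.extZero U.ι).mapDerivedCategoryFactors.app K) ≪≫
    (Scheme.Modules.restrictFunctor U.ι).mapDerivedCategoryFactors.app _ ≪≫
    DerivedCategory.Q.mapIso u.symm ≪≫ e

/-- Supports of extensions by zero. -/
theorem support_extZeroD (U : X.Opens) (F : DCoh.D (U : Scheme.{u})) (T : Set X) {i : ℤ}
    (h : (fun x : (U : Scheme.{u}) => U.ι.base x) '' CohB1.support (DCoh.HD F i) ⊆ T) :
    CohB1.support (DCoh.HD ((CxOX.extZeroD U.ι).obj F) i) ⊆ T := by
  intro x hx
  by_contra hxT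
  refine hx ?_
  suffices hz : RHom.StalkZero x (DCoh.HD ((CxOX.extZeroD U.ι).obj F) i) from
    AddCommGrpCat.subsingleton_of_isZero hz
  refine RHom.stalkZero_iso (RHom.hdMapIso (CxOX.extZero U.ι) F i).symm ?_
  by_cases hxU : x ∈ U
  · refine (RHom.stalkZero_restrict_iff U.ι ⟨x, hxU⟩ _).1 ?_
    refine RHom.stalkZero_iso (asIso ((CxOX.extZeroAdj U.ι).unit.app (DCoh.HD F i))) ?_
    exact stalkZero_of_not_mem_support fun h' => hxT (h ⟨⟨x, hxU⟩, h', rfl⟩)
  · exact RHom.stalkZero_extZero U _ hxU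

/-- `j_!F ≅ Rj_*F` for supports closed in the ambient scheme. -/
theorem nonempty_extZeroD_iso_rpush (U : X.Opens) [DCoh.HasRpush U.ι] (T : Set X) (hT : IsClosed T)
    (hTU : T ⊆ (U : Set X)) (F : DCoh.D (U : Scheme.{u}))
    (hF : ∀ i : ℤ, (fun x : (U : Scheme.{u}) => U.ι.base x) '' CohB1.support (DCoh.HD F i) ⊆ T) :
    Nonempty ((CxOX.extZeroD U.ι).obj F ≅ (DCoh.Rpush U.ι).obj F) :=
  (nonempty_iso_rpush_restrict U T hT hTU _ fun i => support_extZeroD U F T (hF i)).map
    fun e => e ≪≫ (DCoh.Rpush U.ι).mapIso (restrictExtZeroIso U F)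

open DPerf in
/-- Perfectness of direct images with closed support. -/
theorem isPerfect_rpush_of_support (U : X.Opens) [DCoh.HasRpush U.ι] (E : DCoh.D (U : Scheme.{u}))
    (hE : DCoh.IsPerfect E) (T : Set X) (hT : IsClosed T) (hTU : T ⊆ (U : Set X))
    (hF : ∀ i : ℤ, (fun x : (U : Scheme.{u}) => U.ι.base x) '' CohB1.support (DCoh.HD E i) ⊆ T) :
    DCoh.IsPerfect ((DCoh.Rpush U.ι).obj E) := by
  obtain ⟨e⟩ := nonempty_extZeroD_iso_rpush U T hT hTU E hF
  refine isPerfect_iff_approx.2 fun x => ?_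
  by_cases hx : x ∈ T
  · obtain ⟨Z, j, hj, ⟨z, hz⟩, P, hP, α, hα⟩ := isPerfect_iff_approx.1 hE ⟨x, hTU hx⟩
    refine ⟨Z, j ≫ U.ι, inferInstance, ⟨z, by simp [hz]⟩, P, hP,
      α ≫ (resD j).map (restrictExtZeroIso U E).inv ≫ (resDComp U.ι j).hom.app _ ≫ (resD (j ≫ U.ι)).map e.hom,
      hα.comp (dcond_of_isIso _)⟩
  · let V : X.Opens := ⟨Tᶜ, hT.isOpen_compl⟩
    have hz : IsZero ((resD V.ι).obj ((DCoh.Rpush U.ι).obj E)) := by
      refine (isZero_restrictD fun y i hy => stalkZero_of_not_mem_support fun hy' => ?_).of_iso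
        ((resD V.ι).mapIso e.symm)
      exact hy (support_extZeroD U E T (hF i) hy')
    obtain ⟨P, hP⟩ := HasZeroObject.zero (C := CochainComplex (V : Scheme.{u}).Modules ℤ)
    have hPX : ∀ i, IsZero (P.X i) := fun i => (HomologicalComplex.eval _ _ i).map_isZero hP
    refine ⟨_, V.ι, inferInstance, ⟨⟨x, hx⟩, rfl⟩, P,
      ⟨⟨0, 0, fun i _ => hPX i⟩, fun i => M2.isFinLocFree_of_iso
        ((DPerf.isZero_freeMod_zero _).iso (hPX i)) (KFlat.Sch.isFinLocFree_freeMod _ 0)⟩, 0, ?_⟩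
    haveI : IsIso (0 : DCoh.toD _ P ⟶ (resD V.ι).obj ((DCoh.Rpush U.ι).obj E)) :=
      ⟨0, (DerivedCategory.Q.map_isZero hP).eq_of_src _ _, hz.eq_of_src _ _⟩
    exact dcond_of_isIso _

end Groth.Agent.DMV
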