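import Groth.Agent.Lib.DMV.PushSeq
import Groth.Agent.Lib.DPush.Adapted
import Groth.Agent.Lib.KInj.Resolution
import Groth.Agent.Lib.CohFound.RpushQCoh

/-! Derived Mayer-Vietoris triangles and derived restriction. -/

set_option autoImplicit false
set_option linter.style.haveILetI false
set_option linter.unusedSectionVars false
set_option backward.isDefEq.respectTransparency false
set_option backward.isDefEq.respectTransparency.types false

universe u v' u' w'

open CategoryTheory CategoryTheory.Limits AlgebraicGeometry Pretriangulated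

namespace Groth.Agent.DMV

attribute [local instance] HasDerivedCategory.standard

variable {X : Scheme.{u}}

local notation "Cx" => ComplexShape.up ℤ

section NatIso

variable {H : Type u'} [Category.{v'} H] (Φ : HomotopyCategory X.Modules Cx ⥤ H)

/-- Two functors receiving `Φ` isomorphically on K-injective complexes agree. -/
theorem nonempty_iso_of_units (F₁ F₂ : DCoh.D X ⥤ H) (α₁ : Φ ⟶ DerivedCategory.Qh ⋙ F₁)
    (α₂ : Φ ⟶ DerivedCategory.Qh ⋙ F₂)
    (h₁ : ∀ I : CochainComplex X.Modules ℤ, I.IsKInjective → IsIso (α₁.app ((HomotopyCategory.quotient _ Cx).obj I)))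
    (h₂ : ∀ I : CochainComplex X.Modules ℤ, I.IsKInjective → IsIso (α₂.app ((HomotopyCategory.quotient _ Cx).obj I))) :
    Nonempty (F₁ ≅ F₂) := by
  haveI := KInjLib.hasRightDerivedFunctor (A := X.Modules) KInjLib.enoughKInj_of_grothendieck Φ
  let R := Φ.totalRightDerived DerivedCategory.Qh (HomotopyCategory.quasiIso X.Modules Cx)
  let u := Φ.totalRightDerivedUnit DerivedCategory.Qh (HomotopyCategory.quasiIso X.Modules Cx)
  have key : ∀ (F : DCoh.D X ⥤ H) (α : Φ ⟶ DerivedCategory.Qh ⋙ F),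
      (∀ I : CochainComplex X.Modules ℤ, I.IsKInjective → IsIso (α.app ((HomotopyCategory.quotient _ Cx).obj I))) →
      IsIso (R.rightDerivedDesc u (HomotopyCategory.quasiIso X.Modules Cx) F α) := fun F α h => by
    rw [NatTrans.isIso_iff_isIso_app]
    intro K
    obtain ⟨I, hI, ⟨e⟩⟩ := KInjLib.exists_iso_kInjective K
    rw [NatTrans.isIso_app_iff_of_iso (R.rightDerivedDesc u (HomotopyCategory.quasiIso X.Modules Cx) F α)
      (e ≪≫ ((DerivedCategory.quotientCompQhIso X.Modules).app I).symm)]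
    haveI := KInjLib.isIso_app_of_isKInjective (A := X.Modules) KInjLib.enoughKInj_of_grothendieck u I
    haveI : IsIso (u.app ((HomotopyCategory.quotient X.Modules Cx).obj I) ≫
        (R.rightDerivedDesc u (HomotopyCategory.quasiIso X.Modules Cx) F α).app
          (DerivedCategory.Qh.obj ((HomotopyCategory.quotient X.Modules Cx).obj I))) := by
      rw [Functor.rightDerived_fac_app]
      exact h I hI
    change IsIso ((R.rightDerivedDesc u (HomotopyCategory.quasiIso X.Modules Cx) F α).app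
      (DerivedCategory.Qh.obj ((HomotopyCategory.quotient X.Modules Cx).obj I)))
    exact IsIso.of_isIso_comp_left (u.app ((HomotopyCategory.quotient X.Modules Cx).obj I)) _
  haveI := key F₁ α₁ h₁
  haveI := key F₂ α₂ h₂
  exact ⟨(asIso (R.rightDerivedDesc u (HomotopyCategory.quasiIso X.Modules Cx) F₁ α₁)).symm ≪≫
    asIso (R.rightDerivedDesc u (HomotopyCategory.quasiIso X.Modules Cx) F₂ α₂)⟩

end NatIso

/-- Restriction of a K-injective complex is K-injective. -/
theorem isKInjective_restrict {U : X.Opens} (I : CochainComplex X.Modules ℤ) [I.IsKInjective] :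
    CochainComplex.IsKInjective (((Scheme.Modules.restrictFunctor U.ι).mapHomologicalComplex Cx).obj I) :=
  KInjLib.isKInjective_of_adj (Scheme.Modules.restrictFunctor U.ι) (CxOX.extZero U.ι) (CxOX.extZeroAdj U.ι) I

section Triangle

variable {B : Type u'} [Category.{v'} B] [Abelian B] [HasDerivedCategory.{w'} B] (G : X.Modules ⥤ B) [G.Additive]
  {U V : X.Opens} (I : CochainComplex X.Modules ℤ)

/-- `j_*j^*` on complexes. -/
noncomputable abbrev jjrc (U : X.Opens) : CochainComplex X.Modules ℤ :=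
  ((jjr U).mapHomologicalComplex Cx).obj I

/-- The unit on complexes. -/
noncomputable def ηc (U : X.Opens) : I ⟶ jjrc I U where
  f i := (ηr U).app (I.X i)
  comm' i j _ := ((ηr U).naturality (I.d i j)).symm

/-- The restriction on complexes. -/
noncomputable def ρc {W U : X.Opens} (h : W ≤ U) : jjrc I U ⟶ jjrc I W where
  f i := (ρ h).app (I.X i)
  comm' i j _ := ((ρ h).naturality (I.d i j)).symm

theorem ηc_ρc {W U : X.Opens} (h : W ≤ U) : ηc I U ≫ ρc I h = ηc I W :=
  HomologicalComplex.hom_ext _ _ fun i => ηr_ρ h (I.X i)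

/-- The short complex of complexes. -/
noncomputable def pushCx (U V : X.Opens) : ShortComplex (CochainComplex B ℤ) :=
  haveI : HasFiniteBiproducts (CochainComplex X.Modules ℤ) := Abelian.hasFiniteBiproducts
  (ShortComplex.mk (biprod.lift (ηc I U) (ηc I V))
    (biprod.desc (ρc I (inf_le_left : U ⊓ V ≤ U)) (-(ρc I (inf_le_right : U ⊓ V ≤ V))))
    (by rw [biprod.lift_desc, Preadditive.comp_neg, ηc_ρc, ηc_ρc, add_neg_cancel])).map (G.mapHomologicalComplex Cx)

theorem shortExact_pushCx (hUV : U ⊔ V = ⊤) (hI : ∀ n, Injective (I.X n)) : (pushCx G I U V).ShortExact := by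
  refine HomologicalComplex.shortExact_of_degreewise_shortExact _ fun i => ?_
  haveI := hI i
  refine ShortComplex.shortExact_of_iso ?_ (shortExact_pushSC_map hUV (I.X i) G)
  haveI : HasFiniteBiproducts (CochainComplex X.Modules ℤ) := Abelian.hasFiniteBiproducts
  refine G.mapShortComplex.mapIso (X := pushSC U V (I.X i)) (Y := (ShortComplex.mk (biprod.lift (ηc I U) (ηc I V))
    (biprod.desc (ρc I (inf_le_left : U ⊓ V ≤ U)) (-(ρc I (inf_le_right : U ⊓ V ≤ V))))
    (by rw [biprod.lift_desc, Preadditive.comp_neg, ηc_ρc, ηc_ρc, add_neg_cancel])).map (HomologicalComplex.eval X.Modules Cx i)) ?_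
  refine ShortComplex.isoMk (Iso.refl _)
    ((HomologicalComplex.eval X.Modules Cx i).mapBiprod (jjrc I U) (jjrc I V)).symm (Iso.refl _) ?_ ?_
  · refine Eq.trans (Category.id_comp _) ?_
    refine ((Iso.comp_inv_eq _).2 ?_).symm
    change biprod.lift ((ηr U).app (I.X i)) ((ηr V).app (I.X i)) =
      (biprod.lift (ηc I U) (ηc I V)).f i ≫ ((HomologicalComplex.eval X.Modules Cx i).mapBiprod (jjrc I U) (jjrc I V)).hom
    refine biprod.hom_ext _ _ ?_ ?_
    · refine (biprod.lift_fst _ _).trans (Eq.symm ?_)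
      refine ((Category.assoc _ _ _).trans (congrArg (_ ≫ ·) (biprod.lift_fst _ _))).trans ?_
      exact congrArg (fun φ : I ⟶ jjrc I U => φ.f i) (biprod.lift_fst _ _)
    · refine (biprod.lift_snd _ _).trans (Eq.symm ?_)
      refine ((Category.assoc _ _ _).trans (congrArg (_ ≫ ·) (biprod.lift_snd _ _))).trans ?_
      exact congrArg (fun φ : I ⟶ jjrc I V => φ.f i) (biprod.lift_snd _ _)
  · refine Eq.trans ?_ (Category.comp_id _).symm
    change ((HomologicalComplex.eval X.Modules Cx i).mapBiprod (jjrc I U) (jjrc I V)).inv ≫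
        (biprod.desc (ρc I (inf_le_left : U ⊓ V ≤ U)) (-(ρc I (inf_le_right : U ⊓ V ≤ V)))).f i =
      biprod.desc ((ρ _).app (I.X i)) (-((ρ _).app (I.X i)))
    refine biprod.hom_ext' _ _ ?_ ?_
    · refine Eq.trans ?_ (biprod.inl_desc _ _).symm
      refine ((Category.assoc _ _ _).symm.trans (congrArg (· ≫ _) (biprod.inl_desc _ _))).trans ?_
      exact congrArg (fun φ : jjrc I U ⟶ jjrc I (U ⊓ V) => φ.f i) (biprod.inl_desc _ _)
    · refine Eq.trans ?_ (biprod.inr_desc _ _).symm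
      refine ((Category.assoc _ _ _).symm.trans (congrArg (· ≫ _) (biprod.inr_desc _ _))).trans ?_
      exact congrArg (fun φ : jjrc I V ⟶ jjrc I (U ⊓ V) => φ.f i) (biprod.inr_desc _ _)

/-- The triangle `A → B_U ⊕ B_V → B_W →` for objects identified with the terms of the sequence. -/
theorem exists_push_triangle (hUV : U ⊔ V = ⊤) (hI : ∀ n, Injective (I.X n))
    {A₀ AU AV AW : DerivedCategory B}
    (e₀ : DerivedCategory.Q.obj ((G.mapHomologicalComplex Cx).obj I) ≅ A₀)
    (eU : DerivedCategory.Q.obj ((G.mapHomologicalComplex Cx).obj (jjrc I U)) ≅ AU)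
    (eV : DerivedCategory.Q.obj ((G.mapHomologicalComplex Cx).obj (jjrc I V)) ≅ AV)
    (eW : DerivedCategory.Q.obj ((G.mapHomologicalComplex Cx).obj (jjrc I (U ⊓ V))) ≅ AW) :
    ∃ (a : A₀ ⟶ AU ⊞ AV) (b : AU ⊞ AV ⟶ AW) (c : AW ⟶ A₀⟦(1 : ℤ)⟧), Triangle.mk a b c ∈ distTriang _ := by
  haveI : HasFiniteBiproducts (CochainComplex X.Modules ℤ) := Abelian.hasFiniteBiproducts
  haveI : HasFiniteBiproducts (CochainComplex B ℤ) := Abelian.hasFiniteBiproducts
  let T := DerivedCategory.triangleOfSES (shortExact_pushCx G I hUV hI)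
  haveI : PreservesBinaryBiproducts (G.mapHomologicalComplex Cx ⋙ DerivedCategory.Q) :=
    preservesBinaryBiproducts_of_preservesBiproducts _
  let e₂ := (G.mapHomologicalComplex Cx ⋙ DerivedCategory.Q).mapBiprod (jjrc I U) (jjrc I V) ≪≫ biprod.mapIso eU eV
  refine ⟨e₀.inv ≫ T.mor₁ ≫ e₂.hom, e₂.inv ≫ T.mor₂ ≫ eW.hom, eW.inv ≫ T.mor₃ ≫ e₀.hom⟦(1 : ℤ)⟧', ?_⟩
  refine isomorphic_distinguished T (DerivedCategory.triangleOfSES_distinguished (shortExact_pushCx G I hUV hI)) _ ?_
  refine Triangle.isoMk _ _ e₀.symm e₂.symm eW.symm ?_ ?_ ?_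
  · dsimp [T]; simp
  · dsimp [T]; simp
  · dsimp [T]; simp [← Functor.map_comp]

end Triangle

section Push

variable {Y : Scheme.{u}}

/-- A K-injective complex computes `Rg_*`. -/
noncomputable def pushIso (g : X ⟶ Y) [DCoh.HasRpush g] (I : CochainComplex X.Modules ℤ) [I.IsKInjective] :
    DerivedCategory.Q.obj (((Scheme.Modules.pushforward g).mapHomologicalComplex Cx).obj I) ≅
      (DCoh.Rpush g).obj (DerivedCategory.Q.obj I) :=
  haveI := KInjLib.isIso_app_of_isKInjective (A := X.Modules) KInjLib.enoughKInj_of_grothendieck (DPush.unit g) I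
  ((DerivedCategory.quotientCompQhIso Y.Modules).app _).symm ≪≫
    DerivedCategory.Qh.mapIso (((Scheme.Modules.pushforward g).mapHomotopyCategoryFactors Cx).app I).symm ≪≫
    asIso ((DPush.unit g).app ((HomotopyCategory.quotient _ Cx).obj I)) ≪≫
    (DCoh.Rpush g).mapIso ((DerivedCategory.quotientCompQhIso X.Modules).app I)

/-- The restricted resolution computes the derived direct image of the restriction. -/
noncomputable def pushRestrictIso (U : X.Opens) (g : (U : Scheme.{u}) ⟶ Y) [DCoh.HasRpush g]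
    [PreservesFiniteLimits (Scheme.Modules.restrictFunctor U.ι)] (I : CochainComplex X.Modules ℤ) [I.IsKInjective]
    {E : DCoh.D X} (e : DerivedCategory.Q.obj I ≅ E) :
    DerivedCategory.Q.obj (((Scheme.Modules.pushforward g).mapHomologicalComplex Cx).obj
      (((Scheme.Modules.restrictFunctor U.ι).mapHomologicalComplex Cx).obj I)) ≅
      (DCoh.Rpush g).obj ((DCoh.restrictD U.ι).obj E) :=
  haveI := isKInjective_restrict (U := U) I
  pushIso g _ ≪≫ (DCoh.Rpush g).mapIso (((Scheme.Modules.restrictFunctor U.ι).mapDerivedCategoryFactors.app I).symm ≪≫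
    (DCoh.restrictD U.ι).mapIso e)

/-- The relative Mayer-Vietoris triangle. -/
theorem exists_relative_triangle (f : X ⟶ Y) (U V : X.Opens) (hUV : U ⊔ V = ⊤)
    [DCoh.HasRpush f] [DCoh.HasRpush (U.ι ≫ f)] [DCoh.HasRpush (V.ι ≫ f)] [DCoh.HasRpush ((U ⊓ V).ι ≫ f)]
    [PreservesFiniteLimits (Scheme.Modules.restrictFunctor U.ι)]
    [PreservesFiniteLimits (Scheme.Modules.restrictFunctor V.ι)]
    [PreservesFiniteLimits (Scheme.Modules.restrictFunctor (U ⊓ V).ι)] (E : DCoh.D X) :
    ∃ (a : (DCoh.Rpush f).obj E ⟶ ((DCoh.Rpush (U.ι ≫ f)).obj ((DCoh.restrictD U.ι).obj E) ⊞ (DCoh.Rpush (V.ι ≫ f)).obj ((DCoh.restrictD V.ι).obj E))) (b : ((DCoh.Rpush (U.ι ≫ f)).obj ((DCoh.restrictD U.ι).obj E) ⊞ (DCoh.Rpush (V.ι ≫ f)).obj ((DCoh.restrictD V.ι).obj E)) ⟶ (DCoh.Rpush ((U ⊓ V).ι ≫ f)).obj ((DCoh.restrictD (U ⊓ V).ι).obj E)) (c : (DCoh.Rpush ((U ⊓ V).ι ≫ f)).obj ((DCoh.restrictD (U ⊓ V).ι).obj E) ⟶ ((DCoh.Rpush f).obj E)⟦(1 : ℤ)⟧),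
      Triangle.mk a b c ∈ distTriang _ := by
  obtain ⟨I, φ, hI, hφ, -, hinj⟩ := KInjLib.exists_resolution (DerivedCategory.Q.objPreimage E)
  let e : DerivedCategory.Q.obj I ≅ E :=
    (asIso (DerivedCategory.Q.map φ)).symm ≪≫ DerivedCategory.Q.objObjPreimageIso E
  let c : ∀ W : X.Opens, ((Scheme.Modules.pushforward f).mapHomologicalComplex Cx).obj (jjrc I W) ≅
      ((Scheme.Modules.pushforward (W.ι ≫ f)).mapHomologicalComplex Cx).obj
        (((Scheme.Modules.restrictFunctor W.ι).mapHomologicalComplex Cx).obj I) := fun W =>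
    (Functor.mapHomologicalComplexCompIso (Scheme.Modules.pushforwardComp W.ι f) Cx).app
      (((Scheme.Modules.restrictFunctor W.ι).mapHomologicalComplex Cx).obj I)
  exact exists_push_triangle (Scheme.Modules.pushforward f) I hUV hinj
    (pushIso f I ≪≫ (DCoh.Rpush f).mapIso e)
    (DerivedCategory.Q.mapIso (c U) ≪≫ pushRestrictIso U (U.ι ≫ f) I e)
    (DerivedCategory.Q.mapIso (c V) ≪≫ pushRestrictIso V (V.ι ≫ f) I e)
    (DerivedCategory.Q.mapIso (c (U ⊓ V)) ≪≫ pushRestrictIso (U ⊓ V) ((U ⊓ V).ι ≫ f) I e)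

/-- The absolute Mayer-Vietoris triangle. -/
theorem exists_open_triangle (U V : X.Opens) (hUV : U ⊔ V = ⊤)
    [DCoh.HasRpush U.ι] [DCoh.HasRpush V.ι] [DCoh.HasRpush (U ⊓ V).ι]
    [PreservesFiniteLimits (Scheme.Modules.restrictFunctor U.ι)]
    [PreservesFiniteLimits (Scheme.Modules.restrictFunctor V.ι)]
    [PreservesFiniteLimits (Scheme.Modules.restrictFunctor (U ⊓ V).ι)] (E : DCoh.D X) :
    ∃ (a : E ⟶ ((DCoh.Rpush U.ι).obj ((DCoh.restrictD U.ι).obj E) ⊞ (DCoh.Rpush V.ι).obj ((DCoh.restrictD V.ι).obj E))) (b : ((DCoh.Rpush U.ι).obj ((DCoh.restrictD U.ι).obj E) ⊞ (DCoh.Rpush V.ι).obj ((DCoh.restrictD V.ι).obj E)) ⟶ (DCoh.Rpush (U ⊓ V).ι).obj ((DCoh.restrictD (U ⊓ V).ι).obj E)) (c : (DCoh.Rpush (U ⊓ V).ι).obj ((DCoh.restrictD (U ⊓ V).ι).obj E) ⟶ E⟦(1 : ℤ)⟧),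
      Triangle.mk a b c ∈ distTriang _ := by
  obtain ⟨I, φ, hI, hφ, -, hinj⟩ := KInjLib.exists_resolution (DerivedCategory.Q.objPreimage E)
  let e : DerivedCategory.Q.obj I ≅ E :=
    (asIso (DerivedCategory.Q.map φ)).symm ≪≫ DerivedCategory.Q.objObjPreimageIso E
  let c₀ : ((𝟭 X.Modules).mapHomologicalComplex Cx).obj I ≅ I :=
    (Functor.mapHomologicalComplexIdIso X.Modules Cx).app I
  let c : ∀ W : X.Opens, ((𝟭 X.Modules).mapHomologicalComplex Cx).obj (jjrc I W) ≅
      ((Scheme.Modules.pushforward W.ι).mapHomologicalComplex Cx).obj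
        (((Scheme.Modules.restrictFunctor W.ι).mapHomologicalComplex Cx).obj I) := fun W =>
    (Functor.mapHomologicalComplexIdIso X.Modules Cx).app (jjrc I W)
  exact exists_push_triangle (𝟭 X.Modules) I hUV hinj
    (DerivedCategory.Q.mapIso c₀ ≪≫ e)
    (DerivedCategory.Q.mapIso (c U) ≪≫ pushRestrictIso U U.ι I e)
    (DerivedCategory.Q.mapIso (c V) ≪≫ pushRestrictIso V V.ι I e)
    (DerivedCategory.Q.mapIso (c (U ⊓ V)) ≪≫ pushRestrictIso (U ⊓ V) (U ⊓ V).ι I e)

end Push

section Gamma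

/-- A K-injective complex computes `RΓ`. -/
noncomputable def gammaIso (X : Scheme.{u}) [DCoh.HasRΓ X] (I : CochainComplex X.Modules ℤ) [I.IsKInjective] :
    DerivedCategory.Q.obj (((DCoh.gammaAb X).mapHomologicalComplex Cx).obj I) ≅
      (DCoh.RΓ X).obj (DerivedCategory.Q.obj I) :=
  let u := (DCoh.gammaKh X).totalRightDerivedUnit DerivedCategory.Qh (HomotopyCategory.quasiIso X.Modules Cx)
  haveI := KInjLib.isIso_app_of_isKInjective (A := X.Modules) KInjLib.enoughKInj_of_grothendieck u I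
  ((DerivedCategory.quotientCompQhIso AddCommGrpCat.{u}).app _).symm ≪≫
    DerivedCategory.Qh.mapIso (((DCoh.gammaAb X).mapHomotopyCategoryFactors Cx).app I).symm ≪≫
    asIso (u.app ((HomotopyCategory.quotient _ Cx).obj I)) ≪≫
    (DCoh.RΓ X).mapIso ((DerivedCategory.quotientCompQhIso X.Modules).app I)

end Gamma

end Groth.Agent.DMV
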