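import Groth.Agent.Lib.DMV.Restrict
import Groth.Agent.Lib.DPush.Comp
import Groth.Agent.Lib.SimpGrpH7.Homology

/-! Direct images of K-injective complexes compute `RΓ`. -/

set_option autoImplicit false
set_option linter.style.haveILetI false
set_option linter.unusedSectionVars false
set_option backward.isDefEq.respectTransparency false
set_option backward.isDefEq.respectTransparency.types false

universe u v' u'

open CategoryTheory CategoryTheory.Limits AlgebraicGeometry Opposite

namespace Groth.Agent.DMV

attribute [local instance] HasDerivedCategory.standard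

local notation "Cx" => ComplexShape.up ℤ

section Single

variable {A : Type u'} [Category.{v'} A] [Abelian A] {m : ℤ} {P : A} {C : CochainComplex A ℤ}

/-- A map out of a single object gives a cycle. -/
theorem single_comp_d (h : (HomologicalComplex.single A Cx m).obj P ⟶ C) (k : ℤ) :
    (HomologicalComplex.singleObjXSelf Cx m P).inv ≫ h.f m ≫ C.d m k = 0 := by
  rw [h.comm, HomologicalComplex.single_obj_d, zero_comp, comp_zero]

/-- Homotopic maps out of a single object differ by a boundary. -/
theorem exists_of_homotopy {f g : (HomologicalComplex.single A Cx m).obj P ⟶ C} (H : Homotopy f g) :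
    ∃ w : P ⟶ C.X (m - 1), (HomologicalComplex.singleObjXSelf Cx m P).inv ≫ f.f m =
      w ≫ C.d (m - 1) m + (HomologicalComplex.singleObjXSelf Cx m P).inv ≫ g.f m := by
  refine ⟨(HomologicalComplex.singleObjXSelf Cx m P).inv ≫ H.hom m (m - 1), ?_⟩
  rw [H.comm m, dNext_eq H.hom (show (Cx).Rel m (m + 1) by simp),
    prevD_eq H.hom (show (Cx).Rel (m - 1) m by simp), HomologicalComplex.single_obj_d, zero_comp, zero_add,
    Preadditive.comp_add, Category.assoc]

/-- A map out of a single object hitting a boundary is null-homotopic. -/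
theorem nullHomotopic_of_boundary (f : (HomologicalComplex.single A Cx m).obj P ⟶ C) (w : P ⟶ C.X (m - 1))
    (h : (HomologicalComplex.singleObjXSelf Cx m P).inv ≫ f.f m = w ≫ C.d (m - 1) m) :
    Nonempty (Homotopy f 0) := by
  let hh : ∀ i j, (Cx).Rel j i → (((HomologicalComplex.single A Cx m).obj P).X i ⟶ C.X j) := fun i j r =>
    if hi : i = m then
      eqToHom (by rw [hi]) ≫ (HomologicalComplex.singleObjXSelf Cx m P).hom ≫ w ≫
        eqToHom (congrArg C.X (show m - 1 = j by have : j + 1 = i := r; omega))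
    else 0
  refine ⟨(Homotopy.ofEq (HomologicalComplex.from_single_hom_ext ?_)).trans (Homotopy.nullHomotopy' hh)⟩
  rw [Homotopy.nullHomotopicMap'_f (show (Cx).Rel (m - 1) m by simp) (show (Cx).Rel m (m + 1) by simp),
    HomologicalComplex.single_obj_d, zero_comp, zero_add]
  rw [← cancel_epi (HomologicalComplex.singleObjXSelf Cx m P).inv, h]
  simp [hh]

end Single

variable {X Y : Scheme.{u}} (g : X ⟶ Y)

/-- Global sections preserve quasi-isomorphisms from direct images of K-injectives to K-injectives. -/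
theorem quasiIso_gamma_push (I : CochainComplex X.Modules ℤ) [I.IsKInjective] {J : CochainComplex Y.Modules ℤ}
    [J.IsKInjective] (φ : ((Scheme.Modules.pushforward g).mapHomologicalComplex Cx).obj I ⟶ J) [QuasiIso φ] :
    QuasiIso (((DCoh.gammaAb Y).mapHomologicalComplex Cx).map φ) := by
  let C := ((Scheme.Modules.pushforward g).mapHomologicalComplex Cx).obj I
  let G := (DQC.gen Y).obj ⊤
  let adj := Scheme.Modules.pullbackPushforwardAdjunction g
  have hs : ∀ m, _root_.PCoh.IsStrictPCAll (SitePAdj.Adapted.{u} (Scheme.Modules.pushforward g))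
      ((HomologicalComplex.single Y.Modules Cx m).obj G) :=
    fun m => SitePAdj.isStrictPCAll_single (DPush.adapted_gen g ⊤) m
  haveI : IsIso (DerivedCategory.Q.map φ) := inferInstance
  refine ⟨fun m => (SimpGrpH7.quasiIsoAt_iff_elements _ (CochainComplex.prev ℤ m) (CochainComplex.next ℤ m)).2
    ⟨fun z hz hy => ?_, fun y hy => ?_⟩⟩
  · obtain ⟨w, hw⟩ := hy
    let z₀ : G ⟶ C.X m := (DQC.genHom ⊤ _).symm z
    let w₀ : G ⟶ J.X (m - 1) := (DQC.genHom ⊤ _).symm w
    let k : (HomologicalComplex.single Y.Modules Cx m).obj G ⟶ C :=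
      HomologicalComplex.mkHomFromSingle z₀ fun j hj => by
        obtain rfl : m + 1 = j := hj
        refine (DQC.genHom ⊤ _).injective ?_
        rw [DQC.genHom_comp, Equiv.apply_symm_apply]
        refine Eq.trans hz ?_
        refine Eq.symm ?_
        rw [← zero_comp (f := (0 : C.X (m + 1) ⟶ C.X (m + 1))) (X := G), DQC.genHom_comp]
        rfl
    have hk : (HomologicalComplex.singleObjXSelf Cx m G).inv ≫ k.f m = z₀ := by
      simp [k]
    obtain ⟨H⟩ := nullHomotopic_of_boundary (k ≫ φ) w₀ (by
      rw [HomologicalComplex.comp_f, ← Category.assoc, hk]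
      refine (DQC.genHom ⊤ _).injective ?_
      rw [DQC.genHom_comp, DQC.genHom_comp, Equiv.apply_symm_apply, Equiv.apply_symm_apply]
      exact hw.symm)
    have hk0 : DerivedCategory.Q.map k = 0 := by
      rw [← cancel_mono (DerivedCategory.Q.map φ), ← Functor.map_comp,
        DerivedCategory.Q_map_eq_of_homotopy _ H, Functor.map_zero, zero_comp]
    have h0 := SitePAdj.Q_map_adj_eq_zero adj (DPush.isQuasiLiftable_adapted g) (hs m) I k hk0
    rw [← DerivedCategory.Q.map_zero] at h0
    obtain ⟨H₁⟩ := (KInjLib.map_eq_iff _ _).1 h0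
    have hk' : k = (KInjLib.adjComplexes adj Cx).unit.app _ ≫
        ((Scheme.Modules.pushforward g).mapHomologicalComplex Cx).map
          (((KInjLib.adjComplexes adj Cx).homEquiv _ I).symm k) :=
      ((Equiv.apply_symm_apply _ k).symm).trans (Adjunction.homEquiv_unit _ _ _ _)
    obtain ⟨v, hv⟩ := exists_of_homotopy (((Homotopy.ofEq hk').trans
      (((Scheme.Modules.pushforward g).mapHomotopy H₁).compLeft _)).trans
        (Homotopy.ofEq (by simp) : Homotopy _ (0 : _ ⟶ C)))
    rw [hk, HomologicalComplex.zero_f, comp_zero, add_zero] at hv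
    refine ⟨DQC.genHom ⊤ _ v, ?_⟩
    have := congrArg (DQC.genHom ⊤ _) hv
    rw [Equiv.apply_symm_apply, DQC.genHom_comp] at this
    exact this.symm
  · let y₀ : G ⟶ J.X m := (DQC.genHom ⊤ _).symm y
    let x : (HomologicalComplex.single Y.Modules Cx m).obj G ⟶ J :=
      HomologicalComplex.mkHomFromSingle y₀ fun j hj => by
        obtain rfl : m + 1 = j := hj
        refine (DQC.genHom ⊤ _).injective ?_
        rw [DQC.genHom_comp, Equiv.apply_symm_apply]
        refine Eq.trans hy ?_
        refine Eq.symm ?_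
        rw [← zero_comp (f := (0 : J.X (m + 1) ⟶ J.X (m + 1))) (X := G), DQC.genHom_comp]
        rfl
    obtain ⟨h, hh⟩ := SitePAdj.exists_Q_map_eq adj (DPush.isQuasiLiftable_adapted g) (hs m) I
      (DerivedCategory.Q.map x ≫ inv (DerivedCategory.Q.map φ))
    obtain ⟨H⟩ := (KInjLib.map_eq_iff (h ≫ φ) x).1 (by
      rw [Functor.map_comp, hh, Category.assoc, IsIso.inv_hom_id, Category.comp_id])
    obtain ⟨v, hv⟩ := exists_of_homotopy H
    have hx : (HomologicalComplex.singleObjXSelf Cx m G).inv ≫ x.f m = y₀ := by simp [x]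
    let h₀ : G ⟶ C.X m := (HomologicalComplex.singleObjXSelf Cx m G).inv ≫ h.f m
    refine ⟨DQC.genHom ⊤ _ h₀, ?_, DQC.genHom ⊤ _ v, ?_⟩
    · have := congrArg (DQC.genHom ⊤ _) (single_comp_d h (m + 1))
      rw [← Category.assoc, DQC.genHom_comp] at this
      refine Eq.trans this ?_
      rw [← zero_comp (f := (0 : C.X (m + 1) ⟶ C.X (m + 1))) (X := G), DQC.genHom_comp]
      rfl
    · rw [hx, HomologicalComplex.comp_f, ← Category.assoc, ← sub_eq_iff_eq_add] at hv
      refine Eq.trans (DQC.genHom_comp _ v (J.d (m - 1) m)).symm ?_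
      rw [← hv]
      have key : ∀ a b : G ⟶ J.X m, DQC.genHom ⊤ _ (a - b) = DQC.genHom ⊤ _ a - DQC.genHom ⊤ _ b :=
        fun a b => by
          rw [← Category.id_comp a, ← Category.id_comp b, ← Preadditive.comp_sub, DQC.genHom_comp,
            DQC.genHom_comp, DQC.genHom_comp]
          rfl
      rw [key, DQC.genHom_comp, Equiv.apply_symm_apply]
      rfl

variable [DCoh.HasRΓ Y]

/-- The unit of `RΓ` at a direct image of a K-injective complex. -/
theorem isIso_gamma_unit_push (I : CochainComplex X.Modules ℤ) [I.IsKInjective] :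
    IsIso (((DCoh.gammaKh Y).totalRightDerivedUnit DerivedCategory.Qh (HomotopyCategory.quasiIso Y.Modules Cx)).app
      ((HomotopyCategory.quotient Y.Modules Cx).obj
        (((Scheme.Modules.pushforward g).mapHomologicalComplex Cx).obj I))) := by
  let C := ((Scheme.Modules.pushforward g).mapHomologicalComplex Cx).obj I
  let u := (DCoh.gammaKh Y).totalRightDerivedUnit DerivedCategory.Qh (HomotopyCategory.quasiIso Y.Modules Cx)
  obtain ⟨J, φ, hJ, hφ, -, -⟩ := KInjLib.exists_resolution C
  haveI := quasiIso_gamma_push g I φ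
  haveI := KInjLib.isIso_app_of_isKInjective (A := Y.Modules) KInjLib.enoughKInj_of_grothendieck u J
  let q := (HomotopyCategory.quotient Y.Modules Cx).map φ
  haveI : IsIso ((DCoh.gammaKh Y).map q) := by
    change IsIso (((HomotopyCategory.quotient AddCommGrpCat Cx) ⋙ DerivedCategory.Qh).map
      (((DCoh.gammaAb Y).mapHomologicalComplex Cx).map φ))
    rw [NatIso.isIso_map_iff (DerivedCategory.quotientCompQhIso AddCommGrpCat.{u})]
    infer_instance
  haveI : IsIso ((DerivedCategory.Qh ⋙ DCoh.RΓ Y).map q) := by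
    haveI : IsIso (DerivedCategory.Qh.map q) := by
      change IsIso (((HomotopyCategory.quotient Y.Modules Cx) ⋙ DerivedCategory.Qh).map φ)
      rw [NatIso.isIso_map_iff (DerivedCategory.quotientCompQhIso Y.Modules)]
      infer_instance
    exact Functor.map_isIso (DCoh.RΓ Y) _
  haveI : IsIso (u.app ((HomotopyCategory.quotient Y.Modules Cx).obj C) ≫
      (DerivedCategory.Qh ⋙ DCoh.RΓ Y).map q) := by
    rw [← u.naturality q]
    infer_instance
  exact IsIso.of_isIso_comp_right _ ((DerivedCategory.Qh ⋙ DCoh.RΓ Y).map q)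

/-- `RΓ(Y, Rf_*) ≅ RΓ(X, -)`. -/
theorem nonempty_rGamma_rpush [DCoh.HasRΓ X] [DCoh.HasRpush g] :
    Nonempty (DCoh.Rpush g ⋙ DCoh.RΓ Y ≅ DCoh.RΓ X) := by
  let u := (DCoh.gammaKh Y).totalRightDerivedUnit DerivedCategory.Qh (HomotopyCategory.quasiIso Y.Modules Cx)
  let uX := (DCoh.gammaKh X).totalRightDerivedUnit DerivedCategory.Qh (HomotopyCategory.quasiIso X.Modules Cx)
  let α₁ : DCoh.gammaKh X ⟶ DerivedCategory.Qh ⋙ DCoh.Rpush g ⋙ DCoh.RΓ Y :=
    Functor.whiskerRight (Functor.mapHomotopyCategoryCompIso (gammaPushIso g) Cx).inv _ ≫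
      (Functor.associator _ _ _).hom ≫ Functor.whiskerLeft _ u ≫ (Functor.associator _ _ _).inv ≫
      Functor.whiskerRight (DPush.unit g) _ ≫ (Functor.associator _ _ _).hom
  refine nonempty_iso_of_units (DCoh.gammaKh X) _ _ α₁ uX (fun I hI => ?_)
    fun I hI => KInjLib.isIso_app_of_isKInjective (A := X.Modules) KInjLib.enoughKInj_of_grothendieck uX I
  haveI : IsIso (u.app (((Scheme.Modules.pushforward g).mapHomotopyCategory Cx).obj
      ((HomotopyCategory.quotient X.Modules Cx).obj I))) := isIso_gamma_unit_push g I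
  haveI : IsIso ((DPush.unit g).app ((HomotopyCategory.quotient X.Modules Cx).obj I)) :=
    KInjLib.isIso_app_of_isKInjective KInjLib.enoughKInj_of_grothendieck (DPush.unit g) I
  simp only [α₁, NatTrans.comp_app, Functor.whiskerLeft_app, Functor.whiskerRight_app,
    Functor.associator_inv_app, Functor.associator_hom_app]
  infer_instance

end Groth.Agent.DMV
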