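import Groth.Agent.Lib.DMV.Induct
import Groth.Agent.Lib.DPush.QCoh
import Groth.Agent.Lib.ModM1.Fpqc
import Groth.Agent.Lib.DPerf.Tilde
import Groth.Agent.Lib.TensorMod.Invertible

/-! Maps out of perfect objects into objects with quasi-coherent cohomology. -/

set_option autoImplicit false
set_option linter.style.haveILetI false
set_option linter.unusedSectionVars false
set_option backward.isDefEq.respectTransparency false
set_option backward.isDefEq.respectTransparency.types false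

universe u

open CategoryTheory CategoryTheory.Limits AlgebraicGeometry Pretriangulated Opposite TopologicalSpace ZeroObject
open CategoryTheory.Triangulated DerivedCategory.TStructure

namespace Groth.Agent.DMV

attribute [local instance] HasDerivedCategory.standard

variable {X : Scheme.{u}}

local notation "Cx" => ComplexShape.up ℤ
local notation "HH" => DerivedCategory.homologyFunctor

/-- No classes on a quasi-compact open when cohomology vanishes in a range of fixed length. -/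
theorem exists_class_bound [QuasiSeparatedSpace X] {W : X.Opens} (hW : IsCompact (W : Set X)) :
    ∃ d : ℕ, ∀ (L : DCoh.D X), DCoh.IsQCohD L → ∀ m : ℤ,
      (∀ q, m - d ≤ q → q ≤ m → IsZero (DCoh.HD L q)) →
      Subsingleton ((DerivedCategory.singleFunctor X.Modules m).obj ((DQC.gen X).obj W) ⟶ L) := by
  obtain ⟨d, hd⟩ := CohFound.exists_vanishing_bound_compact hW
  have hext : ∀ (M : X.Modules), Coh.IsQCoh M → ∀ p, d ≤ p →
      Subsingleton (Abelian.Ext.{u} ((DQC.gen X).obj W) M p) := fun M hM p hp =>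
    SiteRlim.subsingleton_ext_freeOn X.sheaf W M p
      ((CohFound.huExt ((CohFound.abF X).obj M) p W).toEquiv.subsingleton_congr.2 (hd M hM p hp))
  refine ⟨d, fun L hL m hz => ?_⟩
  let n := ((d : ℤ) - m).toNat
  haveI := DQC.hasProduct_nat (CohCx.truncTower L)
  have hst : SiteRlim.Stable (CohCx.truncTower L) (CohCx.truncTowerMap L) m n ((DQC.gen X).obj W) :=
    SiteRlim.stable_truncTower L m n fun n' hn' k _ _ => hext _ (hL _) k (by omega)
  have hinj := (hst.bijective (DQC.isRlimVia_truncTower L hL)).1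
  suffices _ from @Function.Injective.subsingleton _ _ _ hinj this
  refine SiteRlim.subsingleton_hom_of_homology m _ (-(n : ℤ)) inferInstance fun q hq => ?_
  by_cases hqn : -(n : ℤ) ≤ q
  · haveI := SiteRlim.isIso_homology_toTruncTower L n q hqn
    refine ((DerivedCategory.singleFunctor X.Modules q).mapIso
      (asIso ((DerivedCategory.homologyFunctor X.Modules q).map (CohCx.toTruncTower L n)))).homToEquiv.subsingleton_congr.1 ?_
    by_cases hqm : m - d ≤ q
    · exact ⟨fun x y => ((DerivedCategory.singleFunctor X.Modules q).map_isZero (hz q hqm hq)).eq_of_tgt x y⟩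
    · obtain ⟨k, hk⟩ : ∃ k : ℕ, q + k = m := ⟨(m - q).toNat, by omega⟩
      exact SiteRlim.subsingleton_hom_single m q k hk (hext _ (hL q) k (by omega))
  · exact ⟨fun x y => ((DerivedCategory.singleFunctor X.Modules q).map_isZero
      (SiteRlim.isZero_homology_truncTower L n q (by omega))).eq_of_tgt x y⟩

theorem isQCohD_shift (L : DCoh.D X) (hL : DCoh.IsQCohD L) (n : ℤ) : DCoh.IsQCohD (L⟦n⟧) :=
  WayOut.cohIn_shift (fun M : X.Modules => Coh.IsQCoh M) (X := L) n hL

theorem isZero_HD_shift (L : DCoh.D X) (n q : ℤ) (h : IsZero (DCoh.HD L (n + q))) : IsZero (DCoh.HD (L⟦n⟧) q) :=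
  h.of_iso (((HH X.Modules 0).shiftIso n q (n + q) rfl).app L)

/-- Maps from a perfect object into an object without cohomology in a range vanish. -/
theorem exists_vanishing_range [CompactSpace X] [QuasiSeparatedSpace X] (K : DCoh.D X) (hK : DCoh.IsPerfect K) :
    ∃ a b : ℤ, ∀ L : DCoh.D X, DCoh.IsQCohD L → (∀ i, a ≤ i → i ≤ b → IsZero (DCoh.HD L i)) →
      ∀ φ : K ⟶ L, φ = 0 := by
  refine perfect_induction (P := fun Y : DCoh.D X => ∃ a b : ℤ, ∀ L : DCoh.D X, DCoh.IsQCohD L →
    (∀ i, a ≤ i → i ≤ b → IsZero (DCoh.HD L i)) → ∀ φ : Y ⟶ L, φ = 0) ⟨?_, ?_, ?_⟩ ?_ ?_ K hK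
  · rintro A B e ⟨a, b, h⟩
    exact ⟨a, b, fun L hL hz φ => by rw [← cancel_epi e.hom, h L hL hz (e.hom ≫ φ), comp_zero]⟩
  · exact ⟨0, 0, fun L _ _ φ => (isZero_zero _).eq_of_src _ _⟩
  · rintro T hT ⟨a, b, h₁⟩ ⟨a', b', h₃⟩
    refine ⟨min a a', max b b', fun L hL hz φ => ?_⟩
    obtain ⟨g, rfl⟩ := Triangle.yoneda_exact₂ T hT φ
      (h₁ L hL (fun i hi hi' => hz i (by omega) (by omega)) _)
    rw [h₃ L hL (fun i hi hi' => hz i (by omega) (by omega)) g, comp_zero]
  · intro W hW m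
    obtain ⟨d, hd⟩ := exists_class_bound hW
    refine ⟨m - d, m, fun L hL hz φ => ?_⟩
    let e := (DerivedCategory.singleFunctorIsoCompQ X.Modules m).app ((DQC.gen X).obj W)
    haveI := hd L hL m hz
    exact (cancel_epi e.hom).1 (Subsingleton.elim _ _)
  · rintro A ⟨a, b, h⟩
    refine ⟨a - 1, b - 1, fun L hL hz φ => ?_⟩
    have h0 := h (L⟦(-1 : ℤ)⟧) (isQCohD_shift L hL _) (fun i hi hi' => isZero_HD_shift L _ i (hz _ (by omega) (by omega)))
      ((shiftShiftNeg A (1 : ℤ)).inv ≫ φ⟦(-1 : ℤ)⟧')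
    apply (shiftFunctor (DCoh.D X) (-1 : ℤ)).map_injective
    rw [Functor.map_zero, ← cancel_epi (shiftShiftNeg A (1 : ℤ)).inv, comp_zero]
    exact h0

/-- The shifted form. -/
theorem exists_shift_bound [CompactSpace X] [QuasiSeparatedSpace X] (K : DCoh.D X) (hK : DCoh.IsPerfect K) :
    ∃ a b : ℤ, ∀ L : DCoh.D X, DCoh.IsQCohD L → ∀ n : ℤ,
      (∀ i, a + n ≤ i → i ≤ b + n → IsZero (DCoh.HD L i)) →
      (∀ φ : K ⟶ L⟦n⟧, φ = 0) ∧ ∀ φ : K⟦-n⟧ ⟶ L, φ = 0 := by
  obtain ⟨a, b, h⟩ := exists_vanishing_range K hK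
  refine ⟨a, b, fun L hL n hz => ?_⟩
  have h' := h (L⟦n⟧) (isQCohD_shift L hL n) fun i hi hi' => isZero_HD_shift L n i (hz _ (by omega) (by omega))
  refine ⟨h', fun φ => ?_⟩
  have h0 := h' ((shiftNegShift K n).inv ≫ φ⟦n⟧')
  apply (shiftFunctor (DCoh.D X) n).map_injective
  rw [Functor.map_zero, ← cancel_epi (shiftNegShift K n).inv, comp_zero]
  exact h0

theorem isQCohD_truncLT (E : DCoh.D X) (hE : DCoh.IsQCohD E) (c : ℤ) :
    DCoh.IsQCohD (((t : TStructure (DCoh.D X)).truncLT c).obj E) := fun q => by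
  by_cases hq : q < c
  · haveI := DerTrunc.isIso_homology_truncLTι E c q hq
    exact M1.isQCoh_of_isIso (asIso ((HH X.Modules q).map (((t : TStructure (DCoh.D X)).truncLTι c).app E))).symm (hE q)
  · haveI : DerivedCategory.IsLE (((t : TStructure (DCoh.D X)).truncLT c).obj E) (c - 1) :=
      (inferInstance : (t : TStructure (DCoh.D X)).IsLE _ (c - 1))
    exact DPush.isQCoh_of_isZero (DerivedCategory.isZero_of_isLE _ (c - 1) q (by omega))

theorem isQCohD_truncGE (E : DCoh.D X) (hE : DCoh.IsQCohD E) (c : ℤ) :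
    DCoh.IsQCohD (((t : TStructure (DCoh.D X)).truncGE c).obj E) := fun q => by
  by_cases hq : c ≤ q
  · haveI := DerTrunc.isIso_homology_truncGEπ E c q hq
    exact M1.isQCoh_of_isIso (asIso ((HH X.Modules q).map (((t : TStructure (DCoh.D X)).truncGEπ c).app E))) (hE q)
  · haveI : DerivedCategory.IsGE (((t : TStructure (DCoh.D X)).truncGE c).obj E) c :=
      (inferInstance : (t : TStructure (DCoh.D X)).IsGE _ c)
    exact DPush.isQCoh_of_isZero (DerivedCategory.isZero_of_isGE _ c q (by omega))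

theorem hom_vanishing_truncGE [CompactSpace X] [QuasiSeparatedSpace X] (P : DCoh.D X) (hP : DCoh.IsPerfect P)
    (E : DCoh.D X) (hE : DCoh.IsQCohD E) (c : ℤ) :
    (∃ N : ℤ, ∀ i : ℤ, N ≤ i → ∀ φ : P⟦-i⟧ ⟶ E, φ = 0) ↔
    (∃ N : ℤ, ∀ i : ℤ, N ≤ i → ∀ φ : P⟦-i⟧ ⟶ ((t : TStructure (DCoh.D X)).truncGE c).obj E, φ = 0) := by
  obtain ⟨a, b, h⟩ := exists_shift_bound P hP
  let L := ((t : TStructure (DCoh.D X)).truncLT c).obj E
  have hL : ∀ q, c ≤ q → IsZero (DCoh.HD L q) := fun q hq => by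
    haveI : DerivedCategory.IsLE L (c - 1) := (inferInstance : (t : TStructure (DCoh.D X)).IsLE L (c - 1))
    exact DerivedCategory.isZero_of_isLE _ (c - 1) q (by omega)
  have hT := (t : TStructure (DCoh.D X)).triangleLTGE_distinguished c E
  constructor
  · rintro ⟨N, hN⟩
    refine ⟨max N (c - a + 1), fun i hi φ => ?_⟩
    have hδ : φ ≫ ((t : TStructure (DCoh.D X)).truncGEδLT c).app E = 0 :=
      (h _ (isQCohD_shift L (isQCohD_truncLT E hE c) 1) i
        (fun q hq _ => isZero_HD_shift L 1 q (hL _ (by omega)))).2 _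
    obtain ⟨g, rfl⟩ := Triangle.coyoneda_exact₃ _ hT φ hδ
    rw [hN i (by omega) g, zero_comp]
  · rintro ⟨N, hN⟩
    refine ⟨max N (c - a + 1), fun i hi φ => ?_⟩
    obtain ⟨g, rfl⟩ := Triangle.coyoneda_exact₂ _ hT φ (hN i (by omega) _)
    rw [(h L (isQCohD_truncLT E hE c) i (fun q hq _ => hL q (by omega))).2 g, zero_comp]

theorem hom_vanishing_truncLE [CompactSpace X] [QuasiSeparatedSpace X] (P : DCoh.D X) (hP : DCoh.IsPerfect P)
    (E : DCoh.D X) (hE : DCoh.IsQCohD E) (c : ℤ) :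
    (∃ N : ℤ, ∀ i : ℤ, i ≤ N → ∀ φ : P⟦-i⟧ ⟶ E, φ = 0) ↔
    (∃ N : ℤ, ∀ i : ℤ, i ≤ N → ∀ φ : P⟦-i⟧ ⟶ ((t : TStructure (DCoh.D X)).truncLE c).obj E, φ = 0) := by
  obtain ⟨a, b, h⟩ := exists_shift_bound P hP
  let G := ((t : TStructure (DCoh.D X)).truncGE (c + 1)).obj E
  have hG : ∀ q, q ≤ c → IsZero (DCoh.HD G q) := fun q hq => by
    haveI : DerivedCategory.IsGE G (c + 1) := (inferInstance : (t : TStructure (DCoh.D X)).IsGE G (c + 1))
    exact DerivedCategory.isZero_of_isGE _ (c + 1) q (by omega)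
  have hT := (t : TStructure (DCoh.D X)).triangleLTGE_distinguished (c + 1) E
  constructor
  · rintro ⟨N, hN⟩
    refine ⟨min N (c - b - 1), fun i hi φ => ?_⟩
    obtain ⟨g, hg⟩ := Triangle.coyoneda_exact₂ _ (inv_rot_of_distTriang _ hT) φ (hN i (by omega) _)
    have hg0 : g = 0 := (h _ (isQCohD_shift G (isQCohD_truncGE E hE (c + 1)) (-1)) i
      (fun q _ hq => isZero_HD_shift G (-1) q (hG _ (by omega)))).2 g
    rw [hg, hg0]; exact zero_comp
  · rintro ⟨N, hN⟩
    refine ⟨min N (c - b - 1), fun i hi φ => ?_⟩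
    obtain ⟨g, rfl⟩ := Triangle.coyoneda_exact₂ _ hT φ
      ((h G (isQCohD_truncGE E hE (c + 1)) i (fun q _ hq => hG q (by omega))).2 _)
    have hg : g = 0 := hN i (by omega) g
    rw [hg]; exact zero_comp

section FinLocFree

/-- A finite projective module is a retract of a finite free one. -/
theorem exists_retract_free_module {R : CommRingCat.{u}} (N : ModuleCat.{u} R) [Module.Finite R N]
    [Module.Projective R N] :
    ∃ n : ℕ, Nonempty (Retract N (ModuleCat.of R (ULift.{u} (Fin n) →₀ R))) := by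
  obtain ⟨n, f, hf⟩ := Module.Finite.exists_fin' R N
  let g : (ULift.{u} (Fin n) →₀ R) →ₗ[R] N :=
    f ∘ₗ ((Finsupp.domLCongr Equiv.ulift).trans (Finsupp.linearEquivFunOnFinite R R (Fin n))).toLinearMap
  have hg : Function.Surjective g := hf.comp (LinearEquiv.surjective _)
  obtain ⟨s, hs⟩ := Module.projective_lifting_property g LinearMap.id hg
  let r : Retract N (ModuleCat.of R (ULift.{u} (Fin n) →₀ R)) :=
    ⟨ModuleCat.ofHom s, ModuleCat.ofHom g, by rw [← ModuleCat.ofHom_comp, hs]; rfl⟩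
  exact ⟨n, ⟨r⟩⟩

/-- A finite locally free module on an affine scheme `Spec R` is a retract of a free one. -/
theorem exists_retract_free {R : CommRingCat.{u}} (M : (Spec R).Modules) (hM : FlatMod.IsFinLocFree M) :
    ∃ n : ℕ, Nonempty (Retract M (FlatMod.freeMod (Spec R) n)) := by
  haveI : M.IsQuasicoherent := M2.isQCoh_of_isFinLocFree hM
  let N : ModuleCat.{u} R := moduleSpecΓFunctor.obj M
  haveI : IsIso M.fromTildeΓ := Scheme.Modules.isIso_fromTildeΓ_of_isQuasicoherent (R := R) M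
  let e : tilde N ≅ M := asIso M.fromTildeΓ
  have hN : FlatMod.IsFinLocFree (tilde N) := M2.isFinLocFree_of_iso e.symm hM
  haveI : Module.Flat R N := M1.flat_of_isFinLocFree_tilde N hN
  haveI : Module.FinitePresentation R N := M1.finitePresentation_of_isFP_tilde N ((M1.isFinLocFree_iff _).1 hN).1
  haveI : Module.Projective R N := Module.Flat.projective_of_finitePresentation
  obtain ⟨n, ⟨r⟩⟩ := exists_retract_free_module N
  exact ⟨n, ⟨((Retract.ofIso e.symm).trans (r.map (tilde.functor R))).trans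
    (Retract.ofIso ((M1.frTildeIso _).trans (M1.freeModFrIso _ n).symm))⟩⟩

/-- `W_! O_W = j_! O_W`. -/
noncomputable def extOneIso (W : X.Opens) :
    (DQC.gen X).obj W ≅ (CxOX.extZero W.ι).obj (Coh.structureModule W) :=
  DQC.isoOfHomEquiv
    (fun M => ((CxOX.extZeroAdj W.ι).homEquiv _ M).trans ((homOne _).trans
      ((secEq M (show W.ι ''ᵁ ⊤ = W by rw [Scheme.Hom.image_top_eq_opensRange, Scheme.Opens.opensRange_ι])).trans
        (DQC.genHom W M).symm)))
    fun {M N} a b => by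
      apply (DQC.genHom W N).injective
      simp only [Equiv.trans_apply]
      refine ((DQC.genHom W N).apply_symm_apply _).trans (Eq.trans ?_ (DQC.genHom_comp _ _ b).symm)
      refine Eq.trans ?_ (congrArg (b.app W) ((DQC.genHom W M).apply_symm_apply _).symm)
      rw [Adjunction.homEquiv_naturality_right]
      exact secEq_app b (show W.ι ''ᵁ ⊤ = W by rw [Scheme.Hom.image_top_eq_opensRange, Scheme.Opens.opensRange_ι]) _

/-- For affine `W`, `W_!(F|W)` is a retract of a finite sum of `j_!O_W`. -/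
theorem exists_retract_jj {W : X.Opens} (hW : IsAffineOpen W) (F : X.Modules) (hF : FlatMod.IsFinLocFree F) :
    ∃ n : ℕ, Nonempty (Retract ((jj W).obj F) (∐ fun _ : Fin n => (DQC.gen X).obj W)) := by
  obtain ⟨n, ⟨r⟩⟩ := exists_retract_free _ (M2.isFinLocFree_restrict hW.fromSpec hF)
  haveI : HasFiniteBiproducts X.Modules := Abelian.hasFiniteBiproducts
  haveI : (CxOX.extZero W.ι).IsLeftAdjoint := (CxOX.extZeroAdj W.ι).isLeftAdjoint
  let e : (Scheme.Modules.restrictFunctor W.ι).obj F ≅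
      (Scheme.Modules.restrictFunctor hW.isoSpec.hom).obj (F.restrict hW.fromSpec) :=
    ((Scheme.Modules.restrictFunctorCongr hW.isoSpec_hom_fromSpec.symm) ≪≫
      Scheme.Modules.restrictFunctorComp _ _).app F
  let r₁ : Retract ((Scheme.Modules.restrictFunctor W.ι).obj F) (FlatMod.freeMod (W : Scheme.{u}) n) :=
    ((Retract.ofIso e).trans (r.map (Scheme.Modules.restrictFunctor hW.isoSpec.hom))).trans
      (Retract.ofIso (M2.freeModRestrictIso hW.isoSpec.hom n))
  exact ⟨n, ⟨(r₁.map (CxOX.extZero W.ι)).trans (Retract.ofIso (PreservesCoproduct.iso (CxOX.extZero W.ι) _ ≪≫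
    Sigma.mapIso fun _ => (extOneIso W).symm))⟩⟩

/-- `Hom(F, E[n]) = 0` for `n` large, uniformly in the finite locally free `F`. -/
theorem exists_ext_bound_finLocFree [CompactSpace X] [QuasiSeparatedSpace X] (E : DCoh.D X)
    (hE : DCoh.IsQCohD E) (b : ℤ) [E.IsLE b] :
    ∃ n₀ : ℤ, 0 < n₀ ∧ ∀ (F : X.Modules), FlatMod.IsFinLocFree F → ∀ n : ℤ, n₀ ≤ n →
      ∀ φ : DCoh.inD X F ⟶ E⟦n⟧, φ = 0 := by
  let σ := fun F : X.Modules => (HomologicalComplex.single X.Modules Cx 0).obj F
  let P : X.Opens → Prop := fun U => ∃ n₀ : ℤ, ∀ (F : X.Modules), FlatMod.IsFinLocFree F → ∀ n : ℤ, n₀ ≤ n →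
      ∀ φ : DerivedCategory.Q.obj (jjc U (σ F)) ⟶ E⟦n⟧, φ = 0
  have hzero : ∀ n q : ℤ, b < n + q → IsZero (DCoh.HD (E⟦n⟧) q) := fun n q h =>
    isZero_HD_shift E n q (DerivedCategory.isZero_of_isLE E b (n + q) h)
  obtain ⟨n₀, hn⟩ : P ⊤ := CohFound.qcqs_induction (P := P) (fun W hW => by
      obtain ⟨d, hd⟩ := exists_class_bound hW.isCompact
      refine ⟨b + d + 1, fun F hF n hn φ => ?_⟩
      obtain ⟨k, ⟨r⟩⟩ := exists_retract_jj hW F hF
      haveI := hd (E⟦n⟧) (isQCohD_shift E hE n) 0 fun q hq _ => hzero n q (by omega)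
      let R := r.map (DerivedCategory.singleFunctor X.Modules 0)
      let e₀ : DerivedCategory.Q.obj (jjc W (σ F)) ≅ (DerivedCategory.singleFunctor X.Modules 0).obj ((jj W).obj F) :=
        DerivedCategory.Q.mapIso (((CxOX.extZero W.ι).mapHomologicalComplex Cx).mapIso
          ((HomologicalComplex.singleMapHomologicalComplex (Scheme.Modules.restrictFunctor W.ι) Cx 0).app F) ≪≫
          (HomologicalComplex.singleMapHomologicalComplex (CxOX.extZero W.ι) Cx 0).app _) ≪≫
        ((DerivedCategory.singleFunctorIsoCompQ X.Modules 0).app _).symm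
      haveI : HasFiniteBiproducts X.Modules := Abelian.hasFiniteBiproducts
      have hz : R.r ≫ e₀.inv ≫ φ = 0 := by
        have hid : (DerivedCategory.singleFunctor X.Modules 0).map (𝟙 (∐ fun _ : Fin k => (DQC.gen X).obj W)) =
            ∑ i : Fin k, (DerivedCategory.singleFunctor X.Modules 0).map (Sigma.π (fun _ : Fin k => (DQC.gen X).obj W) i) ≫
              (DerivedCategory.singleFunctor X.Modules 0).map (Sigma.ι (fun _ : Fin k => (DQC.gen X).obj W) i) := by
          have h1 : 𝟙 (∐ fun _ : Fin k => (DQC.gen X).obj W) = ∑ i : Fin k,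
              Sigma.π (fun _ : Fin k => (DQC.gen X).obj W) i ≫ Sigma.ι (fun _ : Fin k => (DQC.gen X).obj W) i :=
            Sigma.hom_ext _ _ fun j => by
              rw [Category.comp_id, Preadditive.comp_sum, Finset.sum_eq_single j
                (fun i _ hi => by rw [Sigma.ι_π_of_ne_assoc _ hi.symm, zero_comp])
                (fun h => absurd (Finset.mem_univ j) h), Sigma.ι_π_eq_id_assoc]
          rw [h1, Functor.map_sum]
          exact Finset.sum_congr rfl fun i _ => Functor.map_comp _ _ _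
        rw [← Category.id_comp (R.r ≫ e₀.inv ≫ φ), ← CategoryTheory.Functor.map_id, hid, Preadditive.sum_comp]
        exact Finset.sum_eq_zero fun i _ => by
          rw [Category.assoc, Subsingleton.elim ((DerivedCategory.singleFunctor X.Modules 0).map
            (Sigma.ι (fun _ : Fin k => (DQC.gen X).obj W) i) ≫ R.r ≫ e₀.inv ≫ φ) 0, comp_zero]
      rw [← cancel_epi e₀.inv, comp_zero, ← Category.id_comp (e₀.inv ≫ φ), ← R.retract, Category.assoc, hz, comp_zero])
    (fun U V _ _ ⟨a₁, h₁⟩ ⟨a₂, h₂⟩ ⟨a₃, h₃⟩ => by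
      refine ⟨max (max a₁ a₂) (a₃ + 1), fun F hF n hn φ => ?_⟩
      haveI : HasFiniteBiproducts (CochainComplex X.Modules ℤ) := Abelian.hasFiniteBiproducts
      have hT := DerivedCategory.triangleOfSES_distinguished (shortExact_relCx U V (σ F))
      have h2 : ∀ ψ : DerivedCategory.Q.obj (jjc U (σ F) ⊞ jjc V (σ F)) ⟶ E⟦n⟧, ψ = 0 := fun ψ => by
        obtain ⟨g, hg⟩ := Triangle.yoneda_exact₂ _ (DerivedCategory.triangleOfSES_distinguished
          (ShortComplex.Splitting.ofHasBinaryBiproduct (jjc U (σ F)) (jjc V (σ F))).shortExact) ψ (h₁ F hF n (by omega) _)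
        rw [hg, h₂ F hF n (by omega) g]; exact comp_zero
      obtain ⟨g, hg⟩ := Triangle.yoneda_exact₃ _ hT φ (h2 _)
      have hg0 : g = 0 := by
        apply (shiftFunctor (DCoh.D X) (-1 : ℤ)).map_injective
        rw [Functor.map_zero, ← cancel_epi (shiftShiftNeg (DerivedCategory.Q.obj (jjc (U ⊓ V) (σ F))) (1 : ℤ)).inv,
          comp_zero, ← cancel_mono (((shiftFunctorAdd' (DCoh.D X) n (-1 : ℤ) (n - 1) (by ring)).app E).inv), zero_comp]
        exact h₃ F hF (n - 1) (by omega) _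
      rw [hg, hg0]; exact comp_zero)
    (by simpa using isCompact_univ)
  refine ⟨max n₀ 1, by omega, fun F hF n hn' φ => ?_⟩
  haveI := isIso_εc_top (σ F)
  let e : DerivedCategory.Q.obj (jjc (⊤ : X.Opens) (σ F)) ≅ DCoh.inD X F :=
    DerivedCategory.Q.mapIso (asIso (εc (⊤ : X.Opens) (σ F))) ≪≫ ((DerivedCategory.singleFunctorIsoCompQ X.Modules 0).app F).symm
  rw [← cancel_epi e.hom, hn F hF n (by omega) (e.hom ≫ φ), comp_zero]

end FinLocFree

end Groth.Agent.DMV
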