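import Groth.Agent.Lib.DMV.Counit
import Groth.Agent.Lib.CohFound.ModulesInst
import Groth.Agent.Lib.DPerf.Noeth

/-! The Mayer-Vietoris sequence for extensions by zero. -/

set_option autoImplicit false
set_option linter.style.haveILetI false
set_option linter.unusedSectionVars false
set_option backward.isDefEq.respectTransparency false
set_option backward.isDefEq.respectTransparency.types false

universe u

open CategoryTheory CategoryTheory.Limits AlgebraicGeometry Opposite

namespace Groth.Agent.DMV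

variable {X : Scheme.{u}}

/-- `j_!j^*`. -/
noncomputable abbrev jj (U : X.Opens) : X.Modules ⥤ X.Modules :=
  Scheme.Modules.restrictFunctor U.ι ⋙ CxOX.extZero U.ι

/-- Its counit. -/
noncomputable abbrev ε (U : X.Opens) : jj U ⟶ 𝟭 X.Modules := (CxOX.extZeroAdj U.ι).counit

instance mono_ε (U : X.Opens) (M : X.Modules) : Mono ((ε U).app M) := mono_counit U M

theorem restrict_cokernel_ε (U : X.Opens) (M : X.Modules) :
    IsZero ((cokernel ((ε U).app M)).restrict U.ι) := by
  let R := Scheme.Modules.restrictFunctor U.ι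
  haveI : IsSplitEpi (R.map ((ε U).app M)) :=
    ⟨⟨⟨_, (CxOX.extZeroAdj U.ι).right_triangle_components M⟩⟩⟩
  exact (isZero_cokernel_of_epi (R.map ((ε U).app M))).of_iso (PreservesCokernel.iso R _)

theorem subsingleton_sections_of_isZero {W : X.Opens} {M : X.Modules} (h : IsZero (M.restrict W.ι))
    {O : X.Opens} (hO : O ≤ W) : Subsingleton Γ(M, O) := by
  have e : W.ι ''ᵁ (W.ι ⁻¹ᵁ O) = O := by
    rw [Scheme.Hom.image_preimage_eq_opensRange_inf, Scheme.Opens.opensRange_ι, inf_eq_right.2 hO]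
  rw [← e]
  refine ⟨fun a b => ?_⟩
  have h0 : ∀ c : Γ(M.restrict W.ι, W.ι ⁻¹ᵁ O), c = 0 := fun c =>
    congr($(congrArg (fun φ : M.restrict W.ι ⟶ M.restrict W.ι => φ.app (W.ι ⁻¹ᵁ O)) (h.eq_of_src (𝟙 _) 0)) c)
  exact (h0 a).trans (h0 b).symm

theorem isZero_restrict_mono {W U : X.Opens} (hWU : W ≤ U) {M : X.Modules} (h : IsZero (M.restrict U.ι)) :
    IsZero (M.restrict W.ι) := by
  rw [IsZero.iff_id_eq_zero]
  refine Scheme.Modules.hom_ext _ _ fun O => ?_
  ext s
  haveI := subsingleton_sections_of_isZero h (O := W.ι ''ᵁ O)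
    (((W.ι.image_le_opensRange O).trans W.opensRange_ι.le).trans hWU)
  exact @Subsingleton.elim Γ(M, W.ι ''ᵁ O) _ _ _

/-- The comparison `W_!W^* → U_!U^*` for `W ≤ U`. -/
noncomputable def incl {W U : X.Opens} (h : W ≤ U) (M : X.Modules) : (jj W).obj M ⟶ (jj U).obj M :=
  Abelian.monoLift ((ε U).app M) ((ε W).app M) (by
    apply ((CxOX.extZeroAdj W.ι).homEquiv _ _).injective
    exact (isZero_restrict_mono h (restrict_cokernel_ε U M)).eq_of_tgt _ _)

@[reassoc (attr := simp)]
theorem incl_ε {W U : X.Opens} (h : W ≤ U) (M : X.Modules) :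
    incl h M ≫ (ε U).app M = (ε W).app M := Abelian.monoLift_comp _ _ _

@[reassoc]
theorem incl_naturality {W U : X.Opens} (h : W ≤ U) {M N : X.Modules} (φ : M ⟶ N) :
    (jj W).map φ ≫ incl h N = incl h M ≫ (jj U).map φ := by
  rw [← cancel_mono ((ε U).app N), Category.assoc, Category.assoc, incl_ε, (ε U).naturality φ,
    (ε W).naturality φ, incl_ε_assoc]

instance mono_incl {W U : X.Opens} (h : W ≤ U) (M : X.Modules) : Mono (incl h M) :=
  haveI : Mono (incl h M ≫ (ε U).app M) := by rw [incl_ε]; infer_instance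
  mono_of_mono _ ((ε U).app M)

/-- Quotients of `U_!`-modules. -/
theorem isIso_ε_of_epi (U : X.Opens) {M N : X.Modules} (p : M ⟶ N) [Epi p] [IsIso ((ε U).app M)] :
    IsIso ((ε U).app N) :=
  haveI : Epi ((jj U).map p ≫ (ε U).app N) := by
    rw [(ε U).naturality p]
    exact epi_comp _ _
  haveI := epi_of_epi ((jj U).map p) ((ε U).app N)
  isIso_of_mono_of_epi _

theorem isIso_ε_extZero (U : X.Opens) (M : X.Modules) : IsIso ((ε U).app ((jj U).obj M)) :=
  haveI : IsSplitEpi ((ε U).app ((jj U).obj M)) :=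
    ⟨⟨⟨_, (CxOX.extZeroAdj U.ι).left_triangle_components ((Scheme.Modules.restrictFunctor U.ι).obj M)⟩⟩⟩
  isIso_of_mono_of_epi _

/-- Submodules of `U_!`-modules. -/
theorem isIso_ε_of_mono (U : X.Opens) {M N : X.Modules} (i : M ⟶ N) [Mono i] [IsIso ((ε U).app N)] :
    IsIso ((ε U).app M) := by
  haveI : PreservesFiniteColimits (Scheme.Modules.restrictFunctor U.ι) := inferInstance
  haveI := isIso_ε_of_epi U (cokernel.π i)
  have hS : (ShortComplex.mk i (cokernel.π i) (cokernel.condition i)).ShortExact :=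
    ShortComplex.ShortExact.mk' (ShortComplex.exact_cokernel _) inferInstance inferInstance
  have hS' := hS.map_of_exact (jj U)
  obtain ⟨l, hl⟩ : ∃ l : M ⟶ (jj U).obj M, l ≫ (jj U).map i = i ≫ inv ((ε U).app N) := by
    refine ⟨_, KernelFork.IsLimit.lift' hS'.fIsKernel (i ≫ inv ((ε U).app N)) ?_ |>.2⟩
    change (i ≫ inv ((ε U).app N)) ≫ (jj U).map (cokernel.π i) = 0
    rw [← cancel_mono ((ε U).app _), zero_comp, Category.assoc, Category.assoc, (ε U).naturality, Functor.id_map,
      IsIso.inv_hom_id_assoc, cokernel.condition]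
  haveI : IsSplitEpi ((ε U).app M) := ⟨⟨⟨l, by
    rw [← cancel_mono i, Category.assoc]
    refine Eq.trans (congrArg (l ≫ ·) ((ε U).naturality i).symm) ?_
    rw [← Category.assoc, hl, Category.assoc, IsIso.inv_hom_id, Category.comp_id]
    exact (Category.id_comp _).symm⟩⟩⟩
  exact isIso_of_mono_of_epi _

variable {U V : X.Opens}

/-- A module coming from both `U` and `V` and vanishing on `U ∩ V` is zero. -/
theorem isZero_of_ε (Q : X.Modules) [IsIso ((ε U).app Q)] [IsIso ((ε V).app Q)]
    (hW : IsZero (Q.restrict (U ⊓ V).ι)) : IsZero Q := by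
  let adj := Scheme.Modules.restrictAdjunction U.ι
  have hη : adj.unit.app Q = 0 := by
    rw [← cancel_epi ((ε V).app Q)]
    apply ((CxOX.extZeroAdj V.ι).homEquiv _ _).injective
    refine Scheme.Modules.hom_ext _ _ fun O => ?_
    ext s
    have hle : U.ι ''ᵁ (U.ι ⁻¹ᵁ (V.ι ''ᵁ O)) ≤ U ⊓ V := by
      rw [Scheme.Hom.image_preimage_eq_opensRange_inf, Scheme.Opens.opensRange_ι]
      exact inf_le_inf_left _ ((V.ι.image_le_opensRange O).trans V.opensRange_ι.le)
    haveI := subsingleton_sections_of_isZero hW hle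
    exact @Subsingleton.elim Γ(Q, U.ι ''ᵁ (U.ι ⁻¹ᵁ (V.ι ''ᵁ O))) _ _ _
  have h0 : IsZero (Q.restrict U.ι) := by
    rw [IsZero.iff_id_eq_zero]
    have := adj.left_triangle_components Q
    rw [hη, Functor.map_zero, zero_comp] at this
    exact this.symm
  exact ((CxOX.extZero U.ι).map_isZero h0).of_iso (asIso ((ε U).app Q)).symm

/-- The Mayer-Vietoris short complex. -/
noncomputable def mvSC (U V : X.Opens) (M : X.Modules) : ShortComplex X.Modules :=
  ShortComplex.mk (biprod.lift (incl (inf_le_left : U ⊓ V ≤ U) M) (-(incl (inf_le_right : U ⊓ V ≤ V) M)))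
    (biprod.desc ((ε U).app M) ((ε V).app M)) (by simp [biprod.lift_desc])

theorem mono_mvSC_f (M : X.Modules) : Mono (mvSC U V M).f := by
  dsimp [mvSC]
  exact mono_of_mono_fac (biprod.lift_fst (incl (inf_le_left : U ⊓ V ≤ U) M) (-(incl (inf_le_right : U ⊓ V ≤ V) M)))

/-- The sequence is exact without assuming a cover. -/
theorem exact_mvSC (M : X.Modules) : (mvSC U V M).Exact := by
  rw [ShortComplex.exact_iff_epi_kernel_lift]
  let K := kernel (mvSC U V M).g
  let k : K ⟶ (jj U).obj M ⊞ (jj V).obj M := kernel.ι _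
  haveI : Mono k := inferInstanceAs (Mono (kernel.ι _))
  let a := k ≫ biprod.fst
  let b := k ≫ biprod.snd
  have hab : a ≫ (ε U).app M + b ≫ (ε V).app M = 0 := by
    have h0 : k ≫ biprod.desc ((ε U).app M) ((ε V).app M) = 0 := kernel.condition (mvSC U V M).g
    rw [biprod.desc_eq, Preadditive.comp_add] at h0
    simp only [a, b, Category.assoc]
    exact h0
  haveI hab1 : Mono a := Preadditive.mono_of_cancel_zero _ fun {P} z hz => by
    have hb : z ≫ b = 0 := by
      rw [← cancel_mono ((ε V).app M), zero_comp, Category.assoc, eq_neg_of_add_eq_zero_right hab, Preadditive.comp_neg,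
        reassoc_of% hz, zero_comp, neg_zero]
    rw [← cancel_mono k, zero_comp]
    exact biprod.hom_ext _ _ (by simpa [a] using hz) (by simpa [b] using hb)
  haveI hab2 : Mono b := Preadditive.mono_of_cancel_zero _ fun {P} z hz => by
    have ha : z ≫ a = 0 := by
      rw [← cancel_mono ((ε U).app M), zero_comp, Category.assoc, eq_neg_of_add_eq_zero_left hab, Preadditive.comp_neg,
        reassoc_of% hz, zero_comp, neg_zero]
    rw [← cancel_mono k, zero_comp]
    exact biprod.hom_ext _ _ (by simpa [a] using ha) (by simpa [b] using hz)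
  haveI := isIso_ε_extZero U M
  haveI := isIso_ε_extZero V M
  haveI := isIso_ε_of_mono U a
  haveI := isIso_ε_of_mono V b
  haveI : IsIso ((ε (U ⊓ V)).app K) := by
    haveI : IsIso ((ε U).app ((𝟭 X.Modules).obj K)) := ‹IsIso ((ε U).app K)›
    haveI : IsIso ((ε V).app ((𝟭 X.Modules).obj K)) := ‹IsIso ((ε V).app K)›
    haveI := isIso_ε_of_epi U (cokernel.π ((ε (U ⊓ V)).app K))
    haveI := isIso_ε_of_epi V (cokernel.π ((ε (U ⊓ V)).app K))
    haveI : Epi ((ε (U ⊓ V)).app K) :=
      Preadditive.epi_of_isZero_cokernel _ (isZero_of_ε (U := U) (V := V) _ (restrict_cokernel_ε (U ⊓ V) K))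
    exact isIso_of_mono_of_epi _
  let x : K ⟶ M := a ≫ (ε U).app M
  let l : K ⟶ (jj (U ⊓ V)).obj M := inv ((ε (U ⊓ V)).app K) ≫ (jj (U ⊓ V)).map x
  have hlx : l ≫ (ε (U ⊓ V)).app M = x := by
    rw [Category.assoc, (ε (U ⊓ V)).naturality x]
    exact IsIso.inv_hom_id_assoc _ _
  have hl : l ≫ (mvSC U V M).f = k := by
    dsimp [mvSC]
    refine biprod.hom_ext _ _ ?_ ?_
    · rw [Category.assoc, biprod.lift_fst, ← cancel_mono ((ε U).app M), Category.assoc, incl_ε, hlx]
      rfl
    · rw [Category.assoc, biprod.lift_snd, ← cancel_mono ((ε V).app M), Category.assoc, Preadditive.neg_comp,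
        incl_ε, Preadditive.comp_neg, hlx]
      exact (eq_neg_of_add_eq_zero_right hab).symm
  haveI : IsSplitEpi (kernel.lift (mvSC U V M).g (mvSC U V M).f (mvSC U V M).zero) :=
    ⟨⟨⟨l, (cancel_mono (kernel.ι (mvSC U V M).g)).1 (by rw [Category.assoc, kernel.lift_ι, hl, Category.id_comp])⟩⟩⟩
  infer_instance

theorem shortExact_mvSC (hUV : U ⊔ V = ⊤) (M : X.Modules) : (mvSC U V M).ShortExact := by
  haveI := mono_mvSC_f (U := U) (V := V) M
  haveI : Epi (mvSC U V M).g := by
    refine Preadditive.epi_of_cancel_zero _ fun {T} z hz => ?_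
    dsimp [mvSC] at hz
    refine M1.hom_eq_zero_of_cover z (fun b : ULift.{u} Bool => if b.down then U else V) (fun x => ?_) fun b => ?_
    · have hx : x ∈ U ⊔ V := hUV ▸ trivial
      rcases hx with hx | hx
      · exact ⟨⟨true⟩, hx⟩
      · exact ⟨⟨false⟩, hx⟩
    · have hgen : ∀ U' : X.Opens, (ε U').app M ≫ z = 0 → (Scheme.Modules.restrictFunctor U'.ι).map z = 0 :=
        fun U' h => by
          have := congrArg ((CxOX.extZeroAdj U'.ι).homEquiv _ _) h
          rw [Adjunction.homEquiv_unit, Adjunction.homEquiv_unit, Functor.map_comp,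
            Adjunction.right_triangle_components_assoc, Functor.map_zero, comp_zero] at this
          exact this
      obtain ⟨_ | _⟩ := b
      · exact hgen V ((congrArg (· ≫ z) (biprod.inr_desc ((ε U).app M) ((ε V).app M)).symm).trans ((Category.assoc _ _ _).trans ((congrArg (biprod.inr ≫ ·) hz).trans comp_zero)))
      · exact hgen U ((congrArg (· ≫ z) (biprod.inl_desc ((ε U).app M) ((ε V).app M)).symm).trans ((Category.assoc _ _ _).trans ((congrArg (biprod.inl ≫ ·) hz).trans comp_zero)))
  exact ShortComplex.ShortExact.mk' (exact_mvSC M) inferInstance inferInstance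

end Groth.Agent.DMV
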