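import Groth.Agent.Lib.DMV.Triangle
import Mathlib.CategoryTheory.Adjunction.Mates
import Mathlib.CategoryTheory.Preadditive.Injective.Basic

/-! The Mayer-Vietoris sequence for direct images. -/

set_option autoImplicit false
set_option linter.style.haveILetI false
set_option linter.unusedSectionVars false
set_option backward.isDefEq.respectTransparency false
set_option backward.isDefEq.respectTransparency.types false

universe u

open CategoryTheory CategoryTheory.Limits AlgebraicGeometry

namespace Groth.Agent.DMV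

variable {X : Scheme.{u}}

/-- `j_*j^*`. -/
noncomputable abbrev jjr (U : X.Opens) : X.Modules ⥤ X.Modules :=
  Scheme.Modules.restrictFunctor U.ι ⋙ Scheme.Modules.pushforward U.ι

/-- `j_!j^* ⊣ j_*j^*`. -/
noncomputable def adjJ (U : X.Opens) : jj U ⊣ jjr U :=
  (Scheme.Modules.restrictAdjunction U.ι).comp (CxOX.extZeroAdj U.ι)

/-- The inclusion as a natural transformation. -/
noncomputable def inclNat {W U : X.Opens} (h : W ≤ U) : jj W ⟶ jj U where
  app M := incl h M
  naturality _ _ φ := incl_naturality h φ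

/-- The unit `M → j_*j^*M`. -/
noncomputable def ηr (U : X.Opens) : 𝟭 X.Modules ⟶ jjr U :=
  conjugateEquiv (Adjunction.id (C := X.Modules)) (adjJ U) (ε U)

/-- Restriction `U_*U^* → W_*W^*`. -/
noncomputable def ρ {W U : X.Opens} (h : W ≤ U) : jjr U ⟶ jjr W :=
  conjugateEquiv (adjJ U) (adjJ W) (inclNat h)

theorem symm_comp_ηr (U : X.Opens) {T M : X.Modules} (z : T ⟶ M) :
    ((adjJ U).homEquiv T M).symm (z ≫ (ηr U).app M) = (ε U).app T ≫ z := by
  have hc : (jj U).map ((ηr U).app M) ≫ (adjJ U).counit.app M = (ε U).app M := by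
    refine (conjugateEquiv_counit (Adjunction.id (C := X.Modules)) (adjJ U) (ε U) M).trans ?_
    exact Category.comp_id _
  rw [Adjunction.homEquiv_counit, Functor.map_comp, Category.assoc]
  refine Eq.trans (congrArg ((jj U).map z ≫ ·) hc) ?_
  exact (ε U).naturality z

theorem symm_comp_ρ {W U : X.Opens} (h : W ≤ U) {T M : X.Modules} (a : T ⟶ (jjr U).obj M) :
    ((adjJ W).homEquiv T M).symm (a ≫ (ρ h).app M) = incl h T ≫ ((adjJ U).homEquiv T M).symm a := by
  rw [Adjunction.homEquiv_counit, Adjunction.homEquiv_counit, Functor.map_comp, Category.assoc, ρ,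
    conjugateEquiv_counit, ← Category.assoc, ← Category.assoc]
  exact congrArg (· ≫ _) ((inclNat h).naturality a)

theorem ηr_ρ {W U : X.Opens} (h : W ≤ U) (M : X.Modules) : (ηr U).app M ≫ (ρ h).app M = (ηr W).app M := by
  apply ((adjJ W).homEquiv _ _).symm.injective
  have h1 := symm_comp_ρ h ((ηr U).app M)
  have h2 := symm_comp_ηr U (𝟙 M)
  have h3 := symm_comp_ηr W (𝟙 M)
  rw [Category.id_comp] at h2 h3
  refine h1.trans ((congrArg (incl h M ≫ ·) (h2.trans (Category.comp_id _))).trans ?_)
  exact (incl_ε h M).trans ((h3.trans (Category.comp_id _)).symm)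

/-- The short complex `M → U_*U^*M ⊞ V_*V^*M → W_*W^*M`. -/
noncomputable def pushSC (U V : X.Opens) (M : X.Modules) : ShortComplex X.Modules :=
  ShortComplex.mk (biprod.lift ((ηr U).app M) ((ηr V).app M))
    (biprod.desc ((ρ (inf_le_left : U ⊓ V ≤ U)).app M) (-((ρ (inf_le_right : U ⊓ V ≤ V)).app M))) (by
      rw [biprod.lift_desc, Preadditive.comp_neg, ηr_ρ, ηr_ρ, add_neg_cancel])

variable {U V : X.Opens}

theorem shortExact_pushSC (hUV : U ⊔ V = ⊤) (M : X.Modules) [Injective M] : (pushSC U V M).ShortExact := by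
  haveI : Mono (pushSC U V M).f := Preadditive.mono_of_cancel_zero _ fun {T} (z : T ⟶ M) hz => by
    haveI := (shortExact_mvSC hUV T).epi_g
    have h1 : z ≫ (ηr U).app M = 0 := by
      have := congrArg (· ≫ (biprod.fst : (jjr U).obj M ⊞ (jjr V).obj M ⟶ _)) hz
      simpa [pushSC] using this
    have h2 : z ≫ (ηr V).app M = 0 := by
      have := congrArg (· ≫ (biprod.snd : (jjr U).obj M ⊞ (jjr V).obj M ⟶ _)) hz
      simpa [pushSC] using this
    haveI : (jj U).Additive := inferInstance
    have e1 : (ε U).app T ≫ z = 0 := by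
      rw [← symm_comp_ηr U z, h1, Adjunction.homEquiv_counit, Functor.map_zero, zero_comp]
    have e2 : (ε V).app T ≫ z = 0 := by
      rw [← symm_comp_ηr V z, h2, Adjunction.homEquiv_counit, Functor.map_zero, zero_comp]
    refine (cancel_epi (mvSC U V T).g).1 ?_
    change biprod.desc ((ε U).app T) ((ε V).app T) ≫ z = biprod.desc ((ε U).app T) ((ε V).app T) ≫ 0
    refine biprod.hom_ext' _ _ ?_ ?_
    · rw [biprod.inl_desc_assoc, biprod.inl_desc_assoc, comp_zero]; exact e1
    · rw [biprod.inr_desc_assoc, biprod.inr_desc_assoc, comp_zero]; exact e2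
  haveI : IsSplitEpi (pushSC U V M).g := by
    let T := (jjr (U ⊓ V)).obj M
    let a' : (jj U).obj T ⟶ M := Injective.factorThru (((adjJ (U ⊓ V)).homEquiv T M).symm (𝟙 T))
      (incl (inf_le_left : U ⊓ V ≤ U) T)
    let a := (adjJ U).homEquiv T M a'
    have ha : a ≫ (ρ (inf_le_left : U ⊓ V ≤ U)).app M = 𝟙 T := by
      apply ((adjJ (U ⊓ V)).homEquiv T M).symm.injective
      rw [symm_comp_ρ, Equiv.symm_apply_apply]
      exact Injective.comp_factorThru _ _
    exact ⟨⟨⟨biprod.lift a 0, by
      change biprod.lift a 0 ≫ biprod.desc _ _ = _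
      rw [biprod.lift_desc, zero_comp, add_zero, ha]
      rfl⟩⟩⟩
  refine ShortComplex.ShortExact.mk' ?_ inferInstance inferInstance
  rw [ShortComplex.exact_iff_epi_kernel_lift]
  let K := kernel (pushSC U V M).g
  let k : K ⟶ (jjr U).obj M ⊞ (jjr V).obj M := kernel.ι _
  let a := k ≫ biprod.fst
  let b := k ≫ biprod.snd
  have hab : a ≫ (ρ (inf_le_left : U ⊓ V ≤ U)).app M = b ≫ (ρ (inf_le_right : U ⊓ V ≤ V)).app M := by
    have h0 : k ≫ biprod.desc _ _ = 0 := kernel.condition (pushSC U V M).g
    rw [biprod.desc_eq, Preadditive.comp_add, Preadditive.comp_neg, Preadditive.comp_neg, ← sub_eq_add_neg,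
      sub_eq_zero] at h0
    simp only [a, b, Category.assoc]
    exact h0
  let a' := ((adjJ U).homEquiv K M).symm a
  let b' := ((adjJ V).homEquiv K M).symm b
  have hS := shortExact_mvSC hUV K
  haveI := hS.epi_g
  have h' : (mvSC U V K).f ≫ biprod.desc a' b' = 0 := by
    change biprod.lift (incl _ K) (-incl _ K) ≫ biprod.desc a' b' = 0
    rw [biprod.lift_desc, Preadditive.neg_comp, ← sub_eq_add_neg, sub_eq_zero]
    refine (symm_comp_ρ _ a).symm.trans ?_
    rw [hab]
    exact symm_comp_ρ _ b
  let z : K ⟶ M := hS.exact.desc (biprod.desc a' b') h'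
  have hz : biprod.desc ((ε U).app K) ((ε V).app K) ≫ z = biprod.desc a' b' := hS.exact.g_desc _ h'
  have hz1 : (ε U).app K ≫ z = a' := by
    have := congrArg ((biprod.inl : _ ⟶ (jj U).obj K ⊞ (jj V).obj K) ≫ ·) hz
    simpa using this
  have hz2 : (ε V).app K ≫ z = b' := by
    have := congrArg ((biprod.inr : _ ⟶ (jj U).obj K ⊞ (jj V).obj K) ≫ ·) hz
    simpa using this
  have hk : z ≫ (pushSC U V M).f = k := by
    change z ≫ biprod.lift _ _ = k
    refine biprod.hom_ext _ _ ?_ ?_
    · rw [Category.assoc, biprod.lift_fst]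
      exact ((adjJ U).homEquiv K M).symm.injective ((symm_comp_ηr U z).trans hz1)
    · rw [Category.assoc, biprod.lift_snd]
      exact ((adjJ V).homEquiv K M).symm.injective ((symm_comp_ηr V z).trans hz2)
  haveI : IsSplitEpi (kernel.lift (pushSC U V M).g (pushSC U V M).f (pushSC U V M).zero) :=
    ⟨⟨⟨z, (cancel_mono (kernel.ι (pushSC U V M).g)).1 (by rw [Category.assoc, kernel.lift_ι, hk, Category.id_comp])⟩⟩⟩
  infer_instance

/-- For injective `M` the sequence splits, so stays exact under additive functors. -/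
theorem shortExact_pushSC_map (hUV : U ⊔ V = ⊤) (M : X.Modules) [Injective M] {B : Type*} [Category* B] [Abelian B]
    (G : X.Modules ⥤ B) [G.Additive] : ((pushSC U V M).map G).ShortExact :=
  haveI : Injective (pushSC U V M).X₁ := ‹Injective M›
  (((shortExact_pushSC hUV M).splittingOfInjective).map G).shortExact

end Groth.Agent.DMV
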