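import Groth.Agent.Lib.DMV.Rel
import Groth.Agent.Lib.DMV.PushSeq
import Groth.Agent.Lib.DQC.Affine
import Groth.Agent.Lib.DPerf.Free
import Groth.Agent.Lib.CohFound.Colim
import Groth.Agent.Lib.KFlat.Brutal

/-! Induction from `j_! O_W` to perfect objects. -/

set_option autoImplicit false
set_option linter.style.haveILetI false
set_option linter.unusedSectionVars false
set_option backward.isDefEq.respectTransparency false
set_option backward.isDefEq.respectTransparency.types false

universe u

open CategoryTheory CategoryTheory.Limits AlgebraicGeometry Pretriangulated Opposite TopologicalSpace ZeroObject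

namespace Groth.Agent.DMV

attribute [local instance] HasDerivedCategory.standard

variable {X : Scheme.{u}}

local notation "Cx" => ComplexShape.up ℤ

/-- A class of objects closed under isomorphisms and extensions, containing zero. -/
structure ExtClosed (P : DCoh.D X → Prop) : Prop where
  iso : ∀ {A B : DCoh.D X}, (A ≅ B) → P A → P B
  zero : P 0
  ext : ∀ T ∈ (distTriang (DCoh.D X)), P T.obj₁ → P T.obj₃ → P T.obj₂

theorem ExtClosed.ext₃ {P : DCoh.D X → Prop} (hP : ExtClosed P)
    (hshift : ∀ (A : DCoh.D X), P A → P (A⟦(1 : ℤ)⟧)) (T : Triangle (DCoh.D X)) (hT : T ∈ distTriang _)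
    (h₁ : P T.obj₁) (h₂ : P T.obj₂) : P T.obj₃ :=
  hP.ext T.rotate (rot_of_distTriang _ hT) h₂ (hshift _ h₁)

variable {P : DCoh.D X → Prop} (hP : ExtClosed P)

include hP in
theorem prop_of_shortExact {S : ShortComplex (CochainComplex X.Modules ℤ)} (hS : S.ShortExact)
    (h₁ : P (DerivedCategory.Q.obj S.X₁)) (h₃ : P (DerivedCategory.Q.obj S.X₃)) :
    P (DerivedCategory.Q.obj S.X₂) :=
  hP.ext _ (DerivedCategory.triangleOfSES_distinguished hS) h₁ h₃

include hP in
theorem prop_single_biprod (M N : X.Modules) (m : ℤ)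
    (hM : P (DerivedCategory.Q.obj ((HomologicalComplex.single X.Modules Cx m).obj M)))
    (hN : P (DerivedCategory.Q.obj ((HomologicalComplex.single X.Modules Cx m).obj N))) :
    P (DerivedCategory.Q.obj ((HomologicalComplex.single X.Modules Cx m).obj (M ⊞ N))) :=
  prop_of_shortExact hP
    ((ShortComplex.Splitting.ofHasBinaryBiproduct M N).map (HomologicalComplex.single X.Modules Cx m)).shortExact hM hN

include hP in
theorem prop_single_finCoprod (B : X.Modules) (m : ℤ)
    (hB : P (DerivedCategory.Q.obj ((HomologicalComplex.single X.Modules Cx m).obj B))) :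
    ∀ (n : ℕ), P (DerivedCategory.Q.obj ((HomologicalComplex.single X.Modules Cx m).obj (∐ fun _ : Fin n => B))) := by
  classical
  intro n
  induction n with
  | zero =>
    refine hP.iso ?_ hP.zero
    refine (IsZero.iso (isZero_zero _) ?_)
    refine DerivedCategory.Q.map_isZero ((HomologicalComplex.single X.Modules Cx m).map_isZero ?_)
    rw [IsZero.iff_id_eq_zero]
    exact Sigma.hom_ext _ _ fun i => i.elim0
  | succ n ih =>
    let e : B ⊞ (∐ fun _ : Fin n => B) ≅ ∐ fun _ : Fin (n + 1) => B :=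
      { hom := biprod.desc (Sigma.ι (fun _ : Fin (n + 1) => B) 0)
          (Sigma.desc fun i => Sigma.ι (fun _ : Fin (n + 1) => B) i.succ)
        inv := Sigma.desc (Fin.cases biprod.inl fun i => Sigma.ι (fun _ : Fin n => B) i ≫ biprod.inr)
        hom_inv_id := by
          refine biprod.hom_ext' _ _ ?_ ?_
          · simp
          · refine Sigma.hom_ext _ _ fun i => ?_
            simp
        inv_hom_id := Sigma.hom_ext _ _ fun i => by
          cases i using Fin.cases <;> simp }
    exact hP.iso (DerivedCategory.Q.mapIso ((HomologicalComplex.single X.Modules Cx m).mapIso e))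
      (prop_single_biprod hP _ _ m hB ih)

/-- A complex supported in one degree. -/
theorem exists_iso_single_X (L : CochainComplex X.Modules ℤ) (a : ℤ) [L.IsStrictlyGE a] [L.IsStrictlyLE a] :
    Nonempty (L ≅ (HomologicalComplex.single X.Modules Cx a).obj (L.X a)) := by
  obtain ⟨M, ⟨e⟩⟩ := CochainComplex.exists_iso_single L a
  exact ⟨e ≪≫ (HomologicalComplex.single X.Modules Cx a).mapIso
    ((HomologicalComplex.singleObjXSelf Cx a M).symm ≪≫ (HomologicalComplex.Hom.isoApp e a).symm)⟩

include hP in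
/-- A bounded complex whose terms are in the class is in the class. -/
theorem prop_of_terms :
    ∀ (k : ℕ) (a : ℤ) (L : CochainComplex X.Modules ℤ), L.IsStrictlyGE a → L.IsStrictlyLE (a + k) →
      (∀ i m, P (DerivedCategory.Q.obj ((HomologicalComplex.single X.Modules Cx m).obj (L.X i)))) →
        P (DerivedCategory.Q.obj L) := by
  intro k
  induction k with
  | zero =>
    intro a L hge hle hL
    haveI : L.IsStrictlyLE a := by simpa using hle
    obtain ⟨e⟩ := exists_iso_single_X L a
    exact hP.iso (DerivedCategory.Q.mapIso e).symm (hL a a)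
  | succ k ih =>
    intro a L hge hle hL
    let L' := KFlat.brutGE L (a + 1)
    let S' := ShortComplex.mk (KFlat.brutι L (a + 1)) (cokernel.π _) (cokernel.condition _)
    have hS' : S'.ShortExact := ShortComplex.ShortExact.mk' (ShortComplex.exact_cokernel _) inferInstance inferInstance
    have hdeg : ∀ i, (S'.map (HomologicalComplex.eval X.Modules Cx i)).ShortExact := fun i => hS'.map_of_exact _
    have hC₁ : ∀ i, a + 1 ≤ i → IsZero (S'.X₃.X i) := fun i hi => by
      haveI := KFlat.isIso_brutι_f L hi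
      haveI : IsIso (S'.map (HomologicalComplex.eval X.Modules Cx i)).f := this
      exact (hdeg i).isIso_f_iff.1 inferInstance
    have hC₀ : ∀ i, i < a + 1 → Nonempty (L.X i ≅ S'.X₃.X i) := fun i hi => by
      haveI : IsIso (S'.map (HomologicalComplex.eval X.Modules Cx i)).g :=
        (hdeg i).isIso_g_iff.2 (KFlat.brutGE_isZero L hi)
      exact ⟨asIso (S'.map (HomologicalComplex.eval X.Modules Cx i)).g⟩
    haveI : (S'.X₃).IsStrictlyGE a := (CochainComplex.isStrictlyGE_iff _ _).2 fun i hi =>
      let ⟨e⟩ := hC₀ i (by omega)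
      (L.isZero_of_isStrictlyGE a i hi).of_iso e.symm
    haveI : (S'.X₃).IsStrictlyLE a := (CochainComplex.isStrictlyLE_iff _ _).2 fun i hi => hC₁ i (by omega)
    refine prop_of_shortExact hP hS' (ih (a + 1) L' inferInstance ?_ fun i m => ?_) ?_
    · rw [show a + 1 + (k : ℤ) = a + ((k + 1 : ℕ) : ℤ) by push_cast; ring]
      exact KFlat.brutGE_isStrictlyLE L (a + 1) _
    · by_cases hi : a + 1 ≤ i
      · exact hP.iso (DerivedCategory.Q.mapIso ((HomologicalComplex.single X.Modules Cx m).mapIso
          (KFlat.brutIso L hi).symm)) (hL i m)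
      · exact hP.iso (IsZero.iso (isZero_zero _) (DerivedCategory.Q.map_isZero
          ((HomologicalComplex.single X.Modules Cx m).map_isZero (KFlat.brutGE_isZero L (by omega))))) hP.zero
    · obtain ⟨e⟩ := exists_iso_single_X S'.X₃ a
      obtain ⟨e'⟩ := hC₀ a (by omega)
      exact hP.iso (DerivedCategory.Q.mapIso ((HomologicalComplex.single X.Modules Cx a).mapIso e' ≪≫ e.symm)) (hL a a)

/-- Maps out of the structure module. -/
noncomputable def homOne {Z : Scheme.{u}} (M : Z.Modules) : (Coh.structureModule Z ⟶ M) ≃ Γ(M, ⊤) where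
  toFun f := f.app ⊤ (M1.one ⊤)
  invFun s := M1.secHom s
  left_inv f := M1.unit_hom_ext (M1.secHom_app_one _)
  right_inv s := M1.secHom_app_one s

/-- `W_!W^* V_!`. -/
noncomputable abbrev outFun (W V : X.Opens) : (V : Scheme.{u}).Modules ⥤ X.Modules := CxOX.extZero V.ι ⋙ jj W

/-- The adjoint of `W_!W^* V_!`. -/
noncomputable def adjOut (W V : X.Opens) : outFun W V ⊣ jjr W ⋙ Scheme.Modules.restrictFunctor V.ι :=
  (CxOX.extZeroAdj V.ι).comp (adjJ W)

theorem image_preimage_image_top {W V : X.Opens} (h : W ≤ V) : W.ι ''ᵁ (W.ι ⁻¹ᵁ (V.ι ''ᵁ ⊤)) = W := by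
  rw [Scheme.Hom.image_preimage_eq_opensRange_inf, Scheme.Hom.image_top_eq_opensRange,
    Scheme.Opens.opensRange_ι, Scheme.Opens.opensRange_ι, inf_eq_left.2 h]

/-- Sections over equal opens. -/
noncomputable def secEq (M : X.Modules) {U U' : X.Opens} (h : U = U') : Γ(M, U) ≃ Γ(M, U') := h ▸ Equiv.refl _

theorem secEq_app {M N : X.Modules} (φ : M ⟶ N) {U U' : X.Opens} (h : U = U') (s : Γ(M, U)) :
    secEq N h (φ.app U s) = φ.app U' (secEq M h s) := by
  subst h; rfl

/-- `W_!W^*V_! O_V = j_!O_W`. -/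
noncomputable def outOneIso {W V : X.Opens} (h : W ≤ V) :
    (DQC.gen X).obj W ≅ (outFun W V).obj (Coh.structureModule V) :=
  DQC.isoOfHomEquiv
    (fun M => ((adjOut W V).homEquiv _ M).trans ((homOne _).trans
      ((secEq M (image_preimage_image_top h)).trans (DQC.genHom W M).symm)))
    fun {M N} a b => by
      apply (DQC.genHom W N).injective
      simp only [Equiv.trans_apply]
      refine ((DQC.genHom W N).apply_symm_apply _).trans (Eq.trans ?_ (DQC.genHom_comp _ _ b).symm)
      refine Eq.trans ?_ (congrArg (b.app W) ((DQC.genHom W M).apply_symm_apply _).symm)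
      rw [Adjunction.homEquiv_naturality_right]
      exact secEq_app b (image_preimage_image_top h) _

variable (hgen : ∀ (W : X.Opens), IsCompact (W : Set X) →
  ∀ m, P (DerivedCategory.Q.obj ((HomologicalComplex.single X.Modules Cx m).obj ((DQC.gen X).obj W))))

include hP hgen in
theorem prop_jjc_of_free (F : CochainComplex X.Modules ℤ) {V : X.Opens}
    (Pc : CochainComplex (V : Scheme.{u}).Modules ℤ) (a b : ℤ) (hv : DCoh.VanishesOutside Pc a b)
    (hfree : ∀ i : ℤ, ∃ n : ℕ, Nonempty (Pc.X i ≅ FlatMod.freeMod (V : Scheme.{u}) n))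
    (e : DerivedCategory.Q.obj ((DCoh.restrictCx V).obj F) ≅ DerivedCategory.Q.obj Pc)
    {W : X.Opens} (hW : W ≤ V) (hWc : IsCompact (W : Set X)) : P (DerivedCategory.Q.obj (jjc W F)) := by
  let G := outFun W V
  haveI : G.IsLeftAdjoint := (adjOut W V).isLeftAdjoint
  haveI : PreservesFiniteLimits G := comp_preservesFiniteLimits _ _
  haveI : PreservesFiniteColimits G := inferInstance
  haveI hε : ∀ i, IsIso (((jj W).map ((ε V).app (F.X i)))) := fun i => isIso_jj_map_ε hW _
  let e₁ : (G.mapHomologicalComplex Cx).obj ((DCoh.restrictCx V).obj F) ≅ jjc W F :=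
    HomologicalComplex.Hom.isoOfComponents (fun i => @asIso _ _ _ _ ((jj W).map ((ε V).app (F.X i))) (hε i))
      fun i j _ => by
        change (jj W).map ((ε V).app (F.X i)) ≫ (jj W).map (F.d i j) =
          (jj W).map ((jj V).map (F.d i j)) ≫ (jj W).map ((ε V).app (F.X j))
        rw [← Functor.map_comp, ← Functor.map_comp, (ε V).naturality]
        rfl
  refine hP.iso ((G.mapDerivedCategoryFactors.app Pc).symm ≪≫ G.mapDerivedCategory.mapIso e.symm ≪≫
    G.mapDerivedCategoryFactors.app _ ≪≫ DerivedCategory.Q.mapIso e₁) ?_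
  have hv' : ∀ i, i < a ∨ b < i → IsZero (((G.mapHomologicalComplex Cx).obj Pc).X i) := fun i hi =>
    G.map_isZero (hv i hi)
  refine prop_of_terms hP (b - a).toNat a ((G.mapHomologicalComplex Cx).obj Pc)
    ((CochainComplex.isStrictlyGE_iff _ _).2 fun i hi => hv' i (Or.inl hi))
    ((CochainComplex.isStrictlyLE_iff _ _).2 fun i hi => hv' i (Or.inr (by omega))) fun i m => ?_
  obtain ⟨n, ⟨en⟩⟩ := hfree i
  haveI : HasFiniteBiproducts X.Modules := Abelian.hasFiniteBiproducts
  let en' : (∐ fun _ : Fin n => G.obj (Coh.structureModule V)) ≅ G.obj (Pc.X i) :=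
    (PreservesCoproduct.iso G _).symm ≪≫ G.mapIso en.symm
  exact hP.iso (DerivedCategory.Q.mapIso ((HomologicalComplex.single X.Modules Cx m).mapIso en'))
    (prop_single_finCoprod hP _ m (hP.iso (DerivedCategory.Q.mapIso
      ((HomologicalComplex.single X.Modules Cx m).mapIso (outOneIso hW))) (hgen W hWc m)) n)

/-- `⊤_!⊤^* = id`. -/
theorem isIso_εc_top (F : CochainComplex X.Modules ℤ) : IsIso (εc (⊤ : X.Opens) F) := by
    haveI : ∀ i, IsIso ((εc (⊤ : X.Opens) F).f i) := fun i => by
      haveI : Epi ((ε (⊤ : X.Opens)).app (F.X i)) := Preadditive.epi_of_isZero_cokernel _ (by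
        rw [IsZero.iff_id_eq_zero]
        exact M1.hom_eq_zero_of_cover _ (fun _ : PUnit.{1} => (⊤ : X.Opens)) (fun x => ⟨⟨⟩, trivial⟩)
          fun _ => (restrict_cokernel_ε ⊤ (F.X i)).eq_of_src _ _)
      haveI : Mono ((εc (⊤ : X.Opens) F).f i) := mono_ε ⊤ (F.X i)
      haveI : Epi ((εc (⊤ : X.Opens) F).f i) := ‹Epi ((ε (⊤ : X.Opens)).app (F.X i))›
      exact isIso_of_mono_of_epi _
    exact HomologicalComplex.Hom.isIso_of_components _

variable (hshift : ∀ A : DCoh.D X, P A → P (A⟦(1 : ℤ)⟧))

include hP hgen hshift in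
/-- Perfect objects on a qcqs scheme are built from `j_!O_W`. -/
theorem perfect_induction [CompactSpace X] [QuasiSeparatedSpace X] (K : DCoh.D X) (hK : DCoh.IsPerfect K) : P K := by
  let F := DerivedCategory.Q.objPreimage K
  let eF : DCoh.toD X F ≅ K := DerivedCategory.Q.objObjPreimageIso K
  let good : X.Opens → Prop := fun U => ∀ W, W ≤ U → IsCompact (W : Set X) → P (DerivedCategory.Q.obj (jjc W F))
  have hbot : good ⊥ := fun W hW _ => by
    obtain rfl : W = ⊥ := le_bot_iff.1 hW
    refine hP.iso (IsZero.iso (isZero_zero _) (DerivedCategory.Q.map_isZero ?_)) hP.zero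
    rw [IsZero.iff_id_eq_zero]
    refine HomologicalComplex.hom_ext _ _ fun i => ?_
    refine (IsZero.eq_of_src ((CxOX.extZero _).map_isZero ?_) _ _)
    rw [IsZero.iff_id_eq_zero]
    refine M1.hom_eq_zero_of_cover _ (fun e : PEmpty.{1} => e.elim) (fun x => absurd x.2 (fun h => h)) fun e => e.elim
  have hsup : ∀ V V' : X.Opens, IsCompact (V : Set X) → IsCompact (V' : Set X) → good V → good V' → good (V ⊔ V') := by
    intro V V' hV hV' h h' W hW hWc
    have hWV : IsCompact ((W ⊓ V : X.Opens) : Set X) :=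
      QuasiSeparatedSpace.inter_isCompact (W : Set X) (V : Set X) W.isOpen hWc V.isOpen hV
    have hWV' : IsCompact ((W ⊓ V' : X.Opens) : Set X) :=
      QuasiSeparatedSpace.inter_isCompact (W : Set X) (V' : Set X) W.isOpen hWc V'.isOpen hV'
    have hWVV : IsCompact ((W ⊓ V ⊓ (W ⊓ V') : X.Opens) : Set X) :=
      QuasiSeparatedSpace.inter_isCompact _ _ (W ⊓ V).isOpen hWV (W ⊓ V').isOpen hWV'
    have e : W = (W ⊓ V) ⊔ (W ⊓ V') := by rw [← inf_sup_left, inf_eq_left.2 hW]
    haveI : HasFiniteBiproducts (CochainComplex X.Modules ℤ) := Abelian.hasFiniteBiproducts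
    suffices main : P (DerivedCategory.Q.obj (jjc ((W ⊓ V) ⊔ (W ⊓ V')) F)) from Eq.subst
      (motive := fun U => P (DerivedCategory.Q.obj (jjc U F))) e.symm main
    refine hP.ext₃ hshift _ (DerivedCategory.triangleOfSES_distinguished (shortExact_relCx (W ⊓ V) (W ⊓ V') F))
      (h _ (inf_le_left.trans inf_le_right) hWVV) ?_
    have main2 := prop_of_shortExact hP
      (ShortComplex.Splitting.ofHasBinaryBiproduct (jjc (W ⊓ V) F) (jjc (W ⊓ V') F)).shortExact
      (h _ inf_le_right hWV) (h' _ inf_le_right hWV')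
    exact main2
  have hall : good ⊤ := CohFound.compact_induction (X := CohFound.sp X) good hbot hsup (U := ⊤)
    (by simpa using isCompact_univ) fun x _ => by
      obtain ⟨V, hxV, hV⟩ := (DPerf.isPerfect_iff_free K).1 hK x
      obtain ⟨Pc, a, b, hv, hfree, ⟨e⟩⟩ := hV F ⟨eF⟩
      exact ⟨V, hxV, fun W hWV _ _ W' hW' hW'c =>
        prop_jjc_of_free hP hgen F Pc a b hv hfree e (hW'.trans hWV) hW'c⟩
  have htop := hall ⊤ le_rfl (by simpa using isCompact_univ)
  haveI := isIso_εc_top F
  exact hP.iso (DerivedCategory.Q.mapIso (asIso (εc (⊤ : X.Opens) F)) ≪≫ eF) htop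

end Groth.Agent.DMV
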