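import Groth.Agent.Lib.DMV.Triangle
import Groth.Agent.Lib.DQC.Classes

/-! The Mayer-Vietoris sequence inside an open. -/

set_option autoImplicit false
set_option linter.style.haveILetI false
set_option linter.unusedSectionVars false
set_option backward.isDefEq.respectTransparency false
set_option backward.isDefEq.respectTransparency.types false

universe u

open CategoryTheory CategoryTheory.Limits AlgebraicGeometry Pretriangulated Opposite TopologicalSpace

namespace Groth.Agent.DMV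

attribute [local instance] HasDerivedCategory.standard

variable {X : Scheme.{u}}

local notation "Cx" => ComplexShape.up ℤ

/-- For `W ≤ U`, the counit of `U` is invertible on `W`. -/
theorem isIso_restrict_ε {W U : X.Opens} (h : W ≤ U) (M : X.Modules) :
    IsIso ((Scheme.Modules.restrictFunctor W.ι).map ((ε U).app M)) :=
  haveI : Mono ((Scheme.Modules.restrictFunctor W.ι).map ((ε U).app M)) := inferInstance
  haveI : IsSplitEpi ((Scheme.Modules.restrictFunctor W.ι).map ((ε W).app M)) :=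
    ⟨⟨⟨_, (CxOX.extZeroAdj W.ι).right_triangle_components M⟩⟩⟩
  haveI : Epi ((Scheme.Modules.restrictFunctor W.ι).map (incl h M) ≫
      (Scheme.Modules.restrictFunctor W.ι).map ((ε U).app M)) := by
    rw [← Functor.map_comp, incl_ε]; infer_instance
  haveI := epi_of_epi ((Scheme.Modules.restrictFunctor W.ι).map (incl h M))
    ((Scheme.Modules.restrictFunctor W.ι).map ((ε U).app M))
  isIso_of_mono_of_epi _

/-- `W_!W^* U_!U^* = W_!W^*` for `W ≤ U`. -/
theorem isIso_jj_map_ε {W U : X.Opens} (h : W ≤ U) (M : X.Modules) : IsIso ((jj W).map ((ε U).app M)) :=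
  haveI := isIso_restrict_ε h M
  inferInstanceAs (IsIso ((CxOX.extZero W.ι).map ((Scheme.Modules.restrictFunctor W.ι).map ((ε U).app M))))

/-- A module supported by `U`, vanishing on a cover of `U`, is zero. -/
theorem isZero_of_isIso_ε {U V₁ V₂ : X.Opens} (hU : U ≤ V₁ ⊔ V₂) (Q : X.Modules) [IsIso ((ε U).app Q)]
    (h₁ : IsZero (Q.restrict V₁.ι)) (h₂ : IsZero (Q.restrict V₂.ι)) : IsZero Q := by
  refine ((CxOX.extZero U.ι).map_isZero ?_).of_iso (asIso ((ε U).app Q)).symm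
  rw [IsZero.iff_id_eq_zero]
  refine Scheme.Modules.hom_ext _ _ fun O => ?_
  ext s
  change (s : Γ(Q, U.ι ''ᵁ O)) = 0
  have hle : U.ι ''ᵁ O ≤ V₁ ⊔ V₂ := ((U.ι.image_le_opensRange O).trans U.opensRange_ι.le).trans hU
  refine M1.modules_eq_of_locally_eq Q (U.ι ''ᵁ O)
    (fun b : ULift.{u} Bool => (U.ι ''ᵁ O) ⊓ if b.down then V₁ else V₂) (fun _ => inf_le_left) (fun x hx => ?_) _ _
    fun b => ?_
  · rcases hle hx with hx' | hx'
    · exact Opens.mem_iSup.mpr ⟨⟨true⟩, hx, hx'⟩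
    · exact Opens.mem_iSup.mpr ⟨⟨false⟩, hx, hx'⟩
  · obtain ⟨_ | _⟩ := b
    · haveI := subsingleton_sections_of_isZero h₂ (O := U.ι ''ᵁ O ⊓ V₂) inf_le_right
      exact @Subsingleton.elim Γ(Q, U.ι ''ᵁ O ⊓ V₂) _ _ _
    · haveI := subsingleton_sections_of_isZero h₁ (O := U.ι ''ᵁ O ⊓ V₁) inf_le_right
      exact @Subsingleton.elim Γ(Q, U.ι ''ᵁ O ⊓ V₁) _ _ _

/-- The sequence `W → V₁ ⊞ V₂ → U` of extensions by zero. -/
noncomputable def relSC (V₁ V₂ : X.Opens) (M : X.Modules) : ShortComplex X.Modules :=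
  ShortComplex.mk (biprod.lift (incl (inf_le_left : V₁ ⊓ V₂ ≤ V₁) M) (-(incl (inf_le_right : V₁ ⊓ V₂ ≤ V₂) M)))
    (biprod.desc (incl (le_sup_left : V₁ ≤ V₁ ⊔ V₂) M) (incl (le_sup_right : V₂ ≤ V₁ ⊔ V₂) M)) (by
      rw [← cancel_mono ((ε (V₁ ⊔ V₂)).app M), Category.assoc, zero_comp]
      simp [biprod.lift_desc_assoc, Preadditive.neg_comp, Preadditive.comp_neg])

theorem shortExact_relSC (V₁ V₂ : X.Opens) (M : X.Modules) : (relSC V₁ V₂ M).ShortExact := by
  haveI : Mono (relSC V₁ V₂ M).f := mono_mvSC_f (U := V₁) (V := V₂) M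
  haveI : Epi (relSC V₁ V₂ M).g := by
    refine Preadditive.epi_of_isZero_cokernel _ ?_
    haveI := isIso_ε_extZero (V₁ ⊔ V₂) M
    haveI : IsIso ((ε (V₁ ⊔ V₂)).app (relSC V₁ V₂ M).X₃) := ‹_›
    haveI := isIso_ε_of_epi (V₁ ⊔ V₂) (cokernel.π (relSC V₁ V₂ M).g)
    have key : ∀ {V : X.Opens} (h : V ≤ V₁ ⊔ V₂) (i : (jj V).obj M ⟶ (jj V₁).obj M ⊞ (jj V₂).obj M),
        i ≫ (relSC V₁ V₂ M).g = incl h M → IsZero ((cokernel (relSC V₁ V₂ M).g).restrict V.ι) := by
      intro V h i hi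
      let R := Scheme.Modules.restrictFunctor V.ι
      haveI : Mono (R.map ((ε (V₁ ⊔ V₂)).app M)) := inferInstance
      haveI : IsSplitEpi (R.map ((ε V).app M)) :=
        ⟨⟨⟨_, (CxOX.extZeroAdj V.ι).right_triangle_components M⟩⟩⟩
      haveI := isIso_restrict_ε h M
      haveI : Epi (R.map (incl h M) ≫ R.map ((ε (V₁ ⊔ V₂)).app M)) := by
        rw [← Functor.map_comp, incl_ε]; infer_instance
      haveI hinc : Epi (R.map (incl h M)) := by
        have e : R.map (incl h M) = (R.map (incl h M) ≫ R.map ((ε (V₁ ⊔ V₂)).app M)) ≫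
            inv (R.map ((ε (V₁ ⊔ V₂)).app M)) := by simp
        rw [e]; exact epi_comp _ _
      haveI : Epi (R.map i ≫ R.map (relSC V₁ V₂ M).g) := by
        rw [← Functor.map_comp, hi]; exact hinc
      haveI := epi_of_epi (R.map i) (R.map (relSC V₁ V₂ M).g)
      exact (isZero_cokernel_of_epi (R.map (relSC V₁ V₂ M).g)).of_iso (PreservesCokernel.iso R _)
    exact isZero_of_isIso_ε (U := V₁ ⊔ V₂) le_rfl _ (key le_sup_left biprod.inl (biprod.inl_desc _ _))
      (key le_sup_right biprod.inr (biprod.inr_desc _ _))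
  let φ : relSC V₁ V₂ M ⟶ mvSC V₁ V₂ M :=
    { τ₁ := 𝟙 _, τ₂ := 𝟙 _, τ₃ := (ε (V₁ ⊔ V₂)).app M
      comm₁₂ := by simp [relSC, mvSC]
      comm₂₃ := by
        refine (Category.id_comp _).trans ?_
        change biprod.desc _ _ = biprod.desc _ _ ≫ _
        refine biprod.hom_ext' _ _ ?_ ?_ <;> simp }
  haveI : Epi φ.τ₁ := inferInstanceAs (Epi (𝟙 _))
  haveI : IsIso φ.τ₂ := inferInstanceAs (IsIso (𝟙 _))
  haveI : Mono φ.τ₃ := inferInstanceAs (Mono ((ε (V₁ ⊔ V₂)).app M))
  exact ShortComplex.ShortExact.mk' ((ShortComplex.exact_iff_of_epi_of_isIso_of_mono φ).2 (exact_mvSC M))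
    inferInstance inferInstance

/-- The relative short complex of complexes. -/
noncomputable def relCx (V₁ V₂ : X.Opens) (K : CochainComplex X.Modules ℤ) :
    ShortComplex (CochainComplex X.Modules ℤ) :=
  haveI : HasFiniteBiproducts (CochainComplex X.Modules ℤ) := Abelian.hasFiniteBiproducts
  ShortComplex.mk (biprod.lift (inclc (inf_le_left : V₁ ⊓ V₂ ≤ V₁) K) (-(inclc (inf_le_right : V₁ ⊓ V₂ ≤ V₂) K)))
    (biprod.desc (inclc (le_sup_left : V₁ ≤ V₁ ⊔ V₂) K) (inclc (le_sup_right : V₂ ≤ V₁ ⊔ V₂) K)) (by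
      rw [biprod.lift_desc]
      refine HomologicalComplex.hom_ext _ _ fun i => ?_
      have := (relSC V₁ V₂ (K.X i)).zero
      simp only [relSC, biprod.lift_desc] at this
      exact this)

theorem shortExact_relCx (V₁ V₂ : X.Opens) (K : CochainComplex X.Modules ℤ) : (relCx V₁ V₂ K).ShortExact := by
  refine HomologicalComplex.shortExact_of_degreewise_shortExact _ fun i => ?_
  refine ShortComplex.shortExact_of_iso ?_ (shortExact_relSC V₁ V₂ (K.X i))
  haveI : HasFiniteBiproducts (CochainComplex X.Modules ℤ) := Abelian.hasFiniteBiproducts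
  refine ShortComplex.isoMk (Iso.refl _)
    ((HomologicalComplex.eval X.Modules Cx i).mapBiprod (jjc V₁ K) (jjc V₂ K)).symm (Iso.refl _) ?_ ?_
  · refine Eq.trans (Category.id_comp _) ?_
    refine ((Iso.comp_inv_eq _).2 ?_).symm
    change biprod.lift (incl _ (K.X i)) (-incl _ (K.X i)) =
      (biprod.lift (inclc _ K) (-inclc _ K)).f i ≫ ((HomologicalComplex.eval X.Modules Cx i).mapBiprod (jjc V₁ K) (jjc V₂ K)).hom
    refine biprod.hom_ext _ _ ?_ ?_
    · refine (biprod.lift_fst _ _).trans (Eq.symm ?_)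
      refine ((Category.assoc _ _ _).trans (congrArg (_ ≫ ·) (biprod.lift_fst _ _))).trans ?_
      exact congrArg (fun φ : jjc (V₁ ⊓ V₂) K ⟶ jjc V₁ K => φ.f i) (biprod.lift_fst _ _)
    · refine (biprod.lift_snd _ _).trans (Eq.symm ?_)
      refine ((Category.assoc _ _ _).trans (congrArg (_ ≫ ·) (biprod.lift_snd _ _))).trans ?_
      exact congrArg (fun φ : jjc (V₁ ⊓ V₂) K ⟶ jjc V₂ K => φ.f i) (biprod.lift_snd _ _)
  · refine Eq.trans ?_ (Category.comp_id _).symm
    change ((HomologicalComplex.eval X.Modules Cx i).mapBiprod (jjc V₁ K) (jjc V₂ K)).inv ≫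
        (biprod.desc (inclc _ K) (inclc _ K)).f i = biprod.desc (incl _ (K.X i)) (incl _ (K.X i))
    refine biprod.hom_ext' _ _ ?_ ?_
    · refine Eq.trans ?_ (biprod.inl_desc _ _).symm
      refine ((Category.assoc _ _ _).symm.trans (congrArg (· ≫ _) (biprod.inl_desc _ _))).trans ?_
      exact congrArg (fun φ : jjc V₁ K ⟶ jjc (V₁ ⊔ V₂) K => φ.f i) (biprod.inl_desc _ _)
    · refine Eq.trans ?_ (biprod.inr_desc _ _).symm
      refine ((Category.assoc _ _ _).symm.trans (congrArg (· ≫ _) (biprod.inr_desc _ _))).trans ?_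
      exact congrArg (fun φ : jjc V₂ K ⟶ jjc (V₁ ⊔ V₂) K => φ.f i) (biprod.inr_desc _ _)

end Groth.Agent.DMV
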