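import Groth.Agent.Lib.DMV.Seq
import Mathlib.Algebra.Homology.DerivedCategory.ShortExact
import Mathlib.Algebra.Homology.HomologicalComplexBiprod

/-! The Mayer-Vietoris triangle for extensions by zero. -/

set_option autoImplicit false
set_option linter.style.haveILetI false
set_option linter.unusedSectionVars false
set_option backward.isDefEq.respectTransparency false
set_option backward.isDefEq.respectTransparency.types false

universe u

open CategoryTheory CategoryTheory.Limits AlgebraicGeometry Pretriangulated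

namespace Groth.Agent.DMV

attribute [local instance] HasDerivedCategory.standard

variable {X : Scheme.{u}}

local notation "Cx" => ComplexShape.up ℤ

/-- `j_!j^*` on complexes. -/
noncomputable abbrev jjc (U : X.Opens) (K : CochainComplex X.Modules ℤ) : CochainComplex X.Modules ℤ :=
  ((CxOX.extZero U.ι).mapHomologicalComplex Cx).obj
    (((Scheme.Modules.restrictFunctor U.ι).mapHomologicalComplex Cx).obj K)

/-- The counit on complexes. -/
noncomputable def εc (U : X.Opens) (K : CochainComplex X.Modules ℤ) : jjc U K ⟶ K where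
  f i := (ε U).app (K.X i)
  comm' i j _ := ((ε U).naturality (K.d i j)).symm

/-- The inclusion on complexes. -/
noncomputable def inclc {W U : X.Opens} (h : W ≤ U) (K : CochainComplex X.Modules ℤ) : jjc W K ⟶ jjc U K where
  f i := incl h (K.X i)
  comm' i j _ := (incl_naturality h (K.d i j)).symm

theorem inclc_εc {W U : X.Opens} (h : W ≤ U) (K : CochainComplex X.Modules ℤ) :
    inclc h K ≫ εc U K = εc W K :=
  HomologicalComplex.hom_ext _ _ fun i => incl_ε h (K.X i)

/-- The Mayer-Vietoris short complex of complexes. -/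
noncomputable def mvCx (U V : X.Opens) (K : CochainComplex X.Modules ℤ) :
    ShortComplex (CochainComplex X.Modules ℤ) :=
  haveI : HasFiniteBiproducts (CochainComplex X.Modules ℤ) := Abelian.hasFiniteBiproducts
  ShortComplex.mk (biprod.lift (inclc (inf_le_left : U ⊓ V ≤ U) K) (-(inclc (inf_le_right : U ⊓ V ≤ V) K)))
    (biprod.desc (εc U K) (εc V K)) (by simp [biprod.lift_desc, inclc_εc])

theorem shortExact_mvCx {U V : X.Opens} (hUV : U ⊔ V = ⊤) (K : CochainComplex X.Modules ℤ) :
    (mvCx U V K).ShortExact := by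
  refine HomologicalComplex.shortExact_of_degreewise_shortExact _ fun i => ?_
  refine ShortComplex.shortExact_of_iso ?_ (shortExact_mvSC hUV (K.X i))
  haveI : HasFiniteBiproducts (CochainComplex X.Modules ℤ) := Abelian.hasFiniteBiproducts
  refine ShortComplex.isoMk (Iso.refl _)
    ((HomologicalComplex.eval X.Modules Cx i).mapBiprod (jjc U K) (jjc V K)).symm (Iso.refl _) ?_ ?_
  · refine Eq.trans (Category.id_comp _) ?_
    refine ((Iso.comp_inv_eq _).2 ?_).symm
    change biprod.lift (incl _ (K.X i)) (-incl _ (K.X i)) =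
      (biprod.lift (inclc _ K) (-inclc _ K)).f i ≫ ((HomologicalComplex.eval X.Modules Cx i).mapBiprod (jjc U K) (jjc V K)).hom
    refine biprod.hom_ext _ _ ?_ ?_
    · refine (biprod.lift_fst _ _).trans (Eq.symm ?_)
      refine ((Category.assoc _ _ _).trans (congrArg (_ ≫ ·) (biprod.lift_fst _ _))).trans ?_
      exact congrArg (fun φ : jjc (U ⊓ V) K ⟶ jjc U K => φ.f i) (biprod.lift_fst _ _)
    · refine (biprod.lift_snd _ _).trans (Eq.symm ?_)
      refine ((Category.assoc _ _ _).trans (congrArg (_ ≫ ·) (biprod.lift_snd _ _))).trans ?_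
      exact congrArg (fun φ : jjc (U ⊓ V) K ⟶ jjc V K => φ.f i) (biprod.lift_snd _ _)
  · refine Eq.trans ?_ (Category.comp_id _).symm
    change ((HomologicalComplex.eval X.Modules Cx i).mapBiprod (jjc U K) (jjc V K)).inv ≫ (biprod.desc (εc U K) (εc V K)).f i =
      biprod.desc ((ε U).app (K.X i)) ((ε V).app (K.X i))
    refine biprod.hom_ext' _ _ ?_ ?_
    · refine Eq.trans ?_ (biprod.inl_desc _ _).symm
      refine ((Category.assoc _ _ _).symm.trans (congrArg (· ≫ _) (biprod.inl_desc _ _))).trans ?_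
      exact congrArg (fun φ : jjc U K ⟶ K => φ.f i) (biprod.inl_desc _ _)
    · refine Eq.trans ?_ (biprod.inr_desc _ _).symm
      refine ((Category.assoc _ _ _).symm.trans (congrArg (· ≫ _) (biprod.inr_desc _ _))).trans ?_
      exact congrArg (fun φ : jjc V K ⟶ K => φ.f i) (biprod.inr_desc _ _)

/-- The triangle `W_!W^*E → U_!U^*E ⊕ V_!V^*E → E →`. -/
theorem exists_triangle {U V : X.Opens} (hUV : U ⊔ V = ⊤)
    [PreservesFiniteLimits (Scheme.Modules.restrictFunctor U.ι)]
    [PreservesFiniteLimits (Scheme.Modules.restrictFunctor V.ι)]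
    [PreservesFiniteLimits (Scheme.Modules.restrictFunctor (U ⊓ V).ι)] (E : DCoh.D X) :
    ∃ (a : (CxOX.extZeroD (U ⊓ V).ι).obj ((DCoh.restrictD (U ⊓ V).ι).obj E) ⟶ ((CxOX.extZeroD U.ι).obj ((DCoh.restrictD U.ι).obj E) ⊞ (CxOX.extZeroD V.ι).obj ((DCoh.restrictD V.ι).obj E))) (b : ((CxOX.extZeroD U.ι).obj ((DCoh.restrictD U.ι).obj E) ⊞ (CxOX.extZeroD V.ι).obj ((DCoh.restrictD V.ι).obj E)) ⟶ E) (c : E ⟶ ((CxOX.extZeroD (U ⊓ V).ι).obj ((DCoh.restrictD (U ⊓ V).ι).obj E))⟦(1 : ℤ)⟧),
      Triangle.mk a b c ∈ distTriang _ := by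
  let K := DerivedCategory.Q.objPreimage E
  let e₀ : DerivedCategory.Q.obj K ≅ E := DerivedCategory.Q.objObjPreimageIso E
  let e : ∀ (W : X.Opens) [PreservesFiniteLimits (Scheme.Modules.restrictFunctor W.ι)],
      DerivedCategory.Q.obj (jjc W K) ≅ (CxOX.extZeroD W.ι).obj ((DCoh.restrictD W.ι).obj E) := fun W _ =>
    ((CxOX.extZero W.ι).mapDerivedCategoryFactors.app _).symm ≪≫
      (CxOX.extZeroD W.ι).mapIso (((Scheme.Modules.restrictFunctor W.ι).mapDerivedCategoryFactors.app K).symm ≪≫
        (DCoh.restrictD W.ι).mapIso e₀)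
  haveI : HasFiniteBiproducts (CochainComplex X.Modules ℤ) := Abelian.hasFiniteBiproducts
  let T := DerivedCategory.triangleOfSES (shortExact_mvCx hUV K)
  haveI : PreservesBinaryBiproducts (DerivedCategory.Q (C := X.Modules)) := preservesBinaryBiproducts_of_preservesBiproducts _
  let e₂ := DerivedCategory.Q.mapBiprod (jjc U K) (jjc V K) ≪≫ biprod.mapIso (e U) (e V)
  refine ⟨(e (U ⊓ V)).inv ≫ T.mor₁ ≫ e₂.hom, e₂.inv ≫ T.mor₂ ≫ e₀.hom,
    e₀.inv ≫ T.mor₃ ≫ ((e (U ⊓ V)).hom)⟦(1 : ℤ)⟧', ?_⟩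
  refine isomorphic_distinguished T (DerivedCategory.triangleOfSES_distinguished (shortExact_mvCx hUV K)) _ ?_
  refine Triangle.isoMk _ _ (e (U ⊓ V)).symm e₂.symm e₀.symm ?_ ?_ ?_
  · dsimp [T]; simp
  · dsimp [T]; simp
  · dsimp [T]; simp [← Functor.map_comp]

end Groth.Agent.DMV
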